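import Mathlib

/-!
Biadditive maps on a finite field of characteristic two which are semilinear of weight one for a
multiplicative generator.
-/

set_option autoImplicit false

namespace Cfsg.Agent.Lib.H59.TwoAut

variable {F : Type*} [Field F] [Fintype F] [CharP F 2]

theorem eq_mul_of_map_zeta {ζ : F} (hgen : ∀ t : F, t ≠ 0 → ∃ k : ℕ, ζ ^ k = t) (g : F → F)
    (hadd : ∀ a b, g (a + b) = g a + g b) (hw : ∀ a, g (ζ * a) = ζ * g a) (a : F) :
    g a = a * g 1 := by
  have key : ∀ k : ℕ, g (ζ ^ k) = ζ ^ k * g 1 := by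
    intro k
    induction k with
    | zero => simp
    | succ k ih => rw [pow_succ', hw, ih, mul_assoc]
  by_cases ha : a = 0
  · subst ha
    have h := hadd 0 0
    rw [add_zero] at h
    rw [zero_mul]
    exact left_eq_add.1 h
  · obtain ⟨k, rfl⟩ := hgen a ha
    exact key k

theorem sq_eq_of_weight {ζ : F} (hgen : ∀ t : F, t ≠ 0 → ∃ k : ℕ, ζ ^ k = t) (B : F → F → F)
    (hl : ∀ a a' b, B (a + a') b = B a b + B a' b) (hr : ∀ a b b', B a (b + b') = B a b + B a b')
    (hw : ∀ a b, B (ζ * a) (ζ * b) = ζ * B a b) (a b : F) :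
    B a b ^ 2 = a * b * B 1 1 ^ 2 := by
  have h2 : ∀ x : F, x + x = 0 := CharTwo.add_self_eq_zero
  have hl0 : ∀ b, B 0 b = 0 := fun b => by
    have h := hl 0 0 b; rw [add_zero] at h; exact left_eq_add.1 h
  have hr0 : ∀ a, B a 0 = 0 := fun a => by
    have h := hr a 0 0; rw [add_zero] at h; exact left_eq_add.1 h
  have hpow : ∀ (k : ℕ) (a b : F), B (ζ ^ k * a) (ζ ^ k * b) = ζ ^ k * B a b := by
    intro k
    induction k with
    | zero => simp
    | succ k ih => intro a b; rw [pow_succ', mul_assoc, mul_assoc, hw, ih, mul_assoc]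
  have hscale : ∀ t a b : F, B (t * a) (t * b) = t * B a b := by
    intro t a b
    by_cases ht : t = 0
    · simp [ht, hl0]
    · obtain ⟨k, rfl⟩ := hgen t ht; exact hpow k a b
  set f : F → F := fun x => B x 1 ^ 2 with hf
  have hf0 : f 0 = 0 := by simp [f, hl0]
  have hfadd : ∀ x y, f (x + y) = f x + f y := fun x y => by
    simp only [f, hl, CharTwo.add_sq]
  have hB : ∀ x t : F, t ≠ 0 → B x t ^ 2 = t ^ 2 * f (x / t) := fun x t ht => by
    have h := hscale t (x / t) 1
    rw [mul_div_cancel₀ x ht, mul_one] at h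
    rw [h, mul_pow]
  have hstep : ∀ t y : F, f (t ^ 2 * y) = t ^ 2 * f y := by
    intro t y
    by_cases ht : t = 0
    · simp [ht, hf0]
    by_cases ht1 : 1 + t = 0
    · have : t = 1 := (CharTwo.add_eq_zero.1 ht1).symm
      simp [this]
    have e := congrArg (fun z => z ^ 2) (hr (t * (1 + t) * y) 1 t)
    simp only [CharTwo.add_sq] at e
    rw [hB _ _ ht1, hB _ _ one_ne_zero, hB _ _ ht, div_one,
      show t * (1 + t) * y / (1 + t) = t * y by field_simp,
      show t * (1 + t) * y / t = y + t * y by field_simp,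
      show t * (1 + t) * y = t * y + t ^ 2 * y by ring, hfadd, hfadd] at e
    linear_combination (norm := ring_nf) -e + h2 ((t : F) * f (t * y))
    try ring_nf
    try simp [CharTwo.two_eq_zero]
  have hlin : ∀ x, f x = x * f 1 := by
    intro x
    obtain ⟨t, rfl⟩ : ∃ t, t ^ 2 = x :=
      (Finite.injective_iff_surjective.1 fun u v h => CharTwo.sq_injective h) x
    have := hstep t 1
    rwa [mul_one] at this
  by_cases hb : b = 0
  · simp [hb, hr0]
  rw [hB a b hb, hlin]
  show b ^ 2 * (a / b * B 1 1 ^ 2) = _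
  field_simp

theorem eq_zero_of_alternating {ζ : F} (hgen : ∀ t : F, t ≠ 0 → ∃ k : ℕ, ζ ^ k = t)
    (B : F → F → F) (hl : ∀ a a' b, B (a + a') b = B a b + B a' b)
    (hr : ∀ a b b', B a (b + b') = B a b + B a b') (hw : ∀ a b, B (ζ * a) (ζ * b) = ζ * B a b)
    (halt : B 1 1 = 0) (a b : F) : B a b = 0 := by
  have h := sq_eq_of_weight hgen B hl hr hw a b
  rw [halt, zero_pow two_ne_zero, mul_zero] at h
  exact eq_zero_of_pow_eq_zero h

end Cfsg.Agent.Lib.H59.TwoAut
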