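import Mathlib
import Cfsg.Agent.Lib.H59.TwoAut.Weight

/-!
A `2`-group with commuting automorphisms `α` (of order two) and `ρ` such that `ρ` is transitive on
the non-trivial fixed points of `α`: first properties.
-/

set_option autoImplicit false

namespace Cfsg.Agent.Lib.H59.TwoAut

open scoped commutatorElement

variable {Q : Type*} [Group Q]

/-- The fixed points of an automorphism. -/
def fixSub (α : MulAut Q) : Subgroup Q where
  carrier := {x | α x = x}
  one_mem' := map_one α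
  mul_mem' := fun {a b} ha hb => by
    show α (a * b) = a * b
    rw [map_mul, ha, hb]
  inv_mem' := fun {a} ha => by
    show α a⁻¹ = a⁻¹
    rw [map_inv, ha]

/-- The hypotheses. -/
structure Datum (Q : Type*) [Group Q] (n : ℕ) where
  α : MulAut Q
  ρ : MulAut Q
  two : IsPGroup 2 Q
  αα : ∀ x, α (α x) = x
  comm : ∀ x, α (ρ x) = ρ (α x)
  card_fix : Nat.card ↥(fixSub α) = 2 ^ n
  sq_fix : ∀ x, α x = x → x * x = 1
  trans : ∀ x y, α x = x → α y = y → x ≠ 1 → y ≠ 1 → ∃ k : ℕ, (ρ ^ k) x = y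
  period : ρ ^ (2 ^ n - 1) = 1
  two_le : 2 ≤ n

/-- A non-trivial finite `2`-group fixes a non-trivial element under an automorphism of order two. -/
theorem exists_fixed_center [Finite Q] (hQ : IsPGroup 2 Q) [Nontrivial Q] (α : MulAut Q)
    (hα : ∀ x, α (α x) = x) : ∃ z ∈ Subgroup.center Q, z ≠ 1 ∧ α z = z := by
  have : Fact (Nat.Prime 2) := ⟨Nat.prime_two⟩
  have hZc : ∀ z ∈ Subgroup.center Q, α z ∈ Subgroup.center Q := fun z hz =>
    Subgroup.mem_center_iff.2 fun g => by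
      obtain ⟨g, rfl⟩ := α.surjective g
      rw [← map_mul, ← map_mul, Subgroup.mem_center_iff.1 hz g]
  have := hQ.center_nontrivial
  obtain ⟨k, hk⟩ := (hQ.to_subgroup (Subgroup.center Q)).exists_card_eq
  have hk0 : k ≠ 0 := fun h => by
    have h1 : 1 < Nat.card ↥(Subgroup.center Q) := Finite.one_lt_card
    rw [hk, h] at h1
    exact lt_irrefl _ h1
  obtain ⟨⟨z, hz⟩, hzo⟩ := exists_prime_orderOf_dvd_card' 2
    (show 2 ∣ Nat.card ↥(Subgroup.center Q) from hk ▸ dvd_pow_self 2 hk0)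
  rw [Subgroup.orderOf_mk] at hzo
  have hz2 : z * z = 1 := by rw [← pow_two, ← hzo, pow_orderOf_eq_one]
  have hz1 : z ≠ 1 := fun h => by rw [h, orderOf_one] at hzo; exact absurd hzo (by norm_num)
  by_cases hzf : z * α z = 1
  · refine ⟨z, hz, hz1, ?_⟩
    rw [← inv_eq_of_mul_eq_one_right hzf, inv_eq_of_mul_eq_one_right hz2]
  · refine ⟨z * α z, mul_mem hz (hZc z hz), hzf, ?_⟩
    rw [map_mul, hα]
    exact Subgroup.mem_center_iff.1 hz (α z)

namespace Datum

variable {n : ℕ} (d : Datum Q n)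

/-- `x⁻¹ α(x)`. -/
def dl (x : Q) : Q := x⁻¹ * d.α x

theorem α_eq (x : Q) : d.α x = x * d.dl x := (mul_inv_cancel_left x _).symm

theorem dl_mul (x y : Q) : d.dl (x * y) = y⁻¹ * d.dl x * y * d.dl y := by
  simp only [dl, map_mul]; group

theorem dl_one : d.dl 1 = 1 := by simp [dl]

theorem dl_eq_one_iff (x : Q) : d.dl x = 1 ↔ d.α x = x := by
  rw [dl, inv_mul_eq_one, eq_comm]

theorem α_dl (x : Q) : d.α (d.dl x) = (d.dl x)⁻¹ := by
  simp only [dl, map_mul, map_inv, d.αα]; group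

theorem dl_α (x : Q) : d.dl (d.α x) = (d.dl x)⁻¹ := by
  rw [← α_dl]; simp only [dl, map_mul, map_inv]

theorem dl_ρ (x : Q) : d.dl (d.ρ x) = d.ρ (d.dl x) := by
  simp only [dl, map_mul, map_inv, d.comm]

theorem dl_dl (x : Q) : d.dl (d.dl x) = (d.dl x * d.dl x)⁻¹ := by
  show (d.dl x)⁻¹ * d.α (d.dl x) = _
  rw [α_dl, mul_inv_rev]

theorem α_ρ_pow (k : ℕ) (x : Q) : d.α ((d.ρ ^ k) x) = (d.ρ ^ k) (d.α x) := by
  induction k with
  | zero => simp
  | succ k ih => rw [pow_succ', MulAut.mul_apply, MulAut.mul_apply, d.comm, ih]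

theorem dl_ρ_pow (k : ℕ) (x : Q) : d.dl ((d.ρ ^ k) x) = (d.ρ ^ k) (d.dl x) := by
  simp only [dl, map_mul, map_inv, d.α_ρ_pow]

theorem mem_fix {x : Q} : x ∈ fixSub d.α ↔ d.α x = x := Iff.rfl

theorem ρ_fix {x : Q} (hx : d.α x = x) : d.α (d.ρ x) = d.ρ x := by rw [d.comm, hx]

variable [Finite Q]

include d in
theorem one_lt_card_fix : 1 < Nat.card ↥(fixSub d.α) := by
  rw [d.card_fix]
  exact Nat.one_lt_two_pow (by have := d.two_le; omega)

include d in
theorem nontrivial : Nontrivial Q := by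
  have h : Nontrivial ↥(fixSub d.α) := Finite.one_lt_card_iff_nontrivial.1 d.one_lt_card_fix
  obtain ⟨a, b, hab⟩ := h.exists_pair_ne
  exact ⟨⟨a, b, fun he => hab (Subtype.ext he)⟩⟩

/-- A `ρ`-invariant subset of the fixed points with a non-trivial element contains all of them. -/
theorem fix_subset {S : Set Q} (h1 : (1 : Q) ∈ S) (hρ : ∀ x ∈ S, d.ρ x ∈ S) {z : Q} (hz : z ∈ S)
    (hzf : d.α z = z) (hz1 : z ≠ 1) {x : Q} (hx : d.α x = x) : x ∈ S := by
  by_cases hx1 : x = 1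
  · exact hx1 ▸ h1
  obtain ⟨k, rfl⟩ := d.trans z x hzf hx hz1 hx1
  clear hx hx1
  induction k with
  | zero => simpa using hz
  | succ k ih => rw [pow_succ', MulAut.mul_apply]; exact hρ _ ih

theorem central {c : Q} (hc : d.α c = c) (g : Q) : g * c = c * g := by
  have := d.nontrivial
  obtain ⟨z, hz, hz1, hzf⟩ := exists_fixed_center d.two d.α d.αα
  exact Subgroup.mem_center_iff.1 (d.fix_subset (S := (Subgroup.center Q : Set Q)) (one_mem _)
    (fun x hx => Subgroup.mem_center_iff.2 fun g => by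
      obtain ⟨g, rfl⟩ := d.ρ.surjective g
      rw [← map_mul, ← map_mul, Subgroup.mem_center_iff.1 hx g]) hz hzf hz1 hc) g

theorem normal_fix : (fixSub d.α).Normal :=
  ⟨fun x hx g => by rw [d.central hx g, mul_inv_cancel_right]; exact hx⟩

theorem inv_fix {c : Q} (hc : d.α c = c) : c⁻¹ = c := inv_eq_of_mul_eq_one_right (d.sq_fix c hc)

/-- The elements whose `dl` is fixed. -/
def D : Subgroup Q where
  carrier := {x | d.α (d.dl x) = d.dl x}
  one_mem' := by show d.α (d.dl 1) = d.dl 1; rw [d.dl_one, map_one]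
  mul_mem' := fun {a b} ha hb => by
    show d.α (d.dl (a * b)) = d.dl (a * b)
    have e : b⁻¹ * d.dl a * b = d.dl a := by rw [d.central ha, inv_mul_cancel_right]
    rw [d.dl_mul, e, map_mul, ha, hb]
  inv_mem' := fun {a} ha => by
    show d.α (d.dl a⁻¹) = d.dl a⁻¹
    have e : d.dl a⁻¹ = (d.dl a)⁻¹ := by
      have h := d.dl_mul a a⁻¹
      rw [mul_inv_cancel, d.dl_one, inv_inv, d.central ha, mul_inv_cancel_right] at h
      exact eq_inv_of_mul_eq_one_right h.symm
    rw [e, map_inv, ha]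

theorem mem_D {x : Q} : x ∈ d.D ↔ d.α (d.dl x) = d.dl x := Iff.rfl

theorem dl_mul_D {x : Q} (hx : x ∈ d.D) (y : Q) : d.dl (x * y) = d.dl x * d.dl y := by
  rw [d.dl_mul, d.central (show d.α (d.dl x) = d.dl x from hx), inv_mul_cancel_right]

theorem fix_le_D : fixSub d.α ≤ d.D := fun x hx => by
  rw [mem_D, (d.dl_eq_one_iff x).2 hx, map_one]

theorem sq_mem_fix_of_D {x : Q} (hx : x ∈ d.D) : d.α (x * x) = x * x := by
  rw [← d.dl_eq_one_iff, d.dl_mul_D hx, d.sq_fix _ hx]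

/-- The quotient by the fixed points, with everything it inherits. -/
theorem exists_quot (hne : ∃ x, d.α x ≠ x) :
    ∃ (_ : (fixSub d.α).Normal) (d' : Datum (Q ⧸ fixSub d.α) n),
      (∀ x : Q, d'.α (x : Q ⧸ fixSub d.α) = ((d.α x : Q) : Q ⧸ fixSub d.α)) ∧
      (∀ x : Q, d'.ρ (x : Q ⧸ fixSub d.α) = ((d.ρ x : Q) : Q ⧸ fixSub d.α)) := by
  classical
  have hN := d.normal_fix
  set C := fixSub d.α with hC
  have hCα : C.map d.α.toMonoidHom = C := by
    ext x
    refine ⟨?_, fun hx => ⟨x, hx, hx⟩⟩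
    rintro ⟨y, hy, rfl⟩
    show d.α (d.α y) = d.α y
    rw [(hy : d.α y = y), (hy : d.α y = y)]
  have hCρ : C.map d.ρ.toMonoidHom = C := by
    apply Subgroup.eq_of_le_of_card_ge
    · rintro _ ⟨y, hy, rfl⟩; exact d.ρ_fix hy
    · rw [Subgroup.card_map_of_injective d.ρ.injective]
  let α' : MulAut (Q ⧸ C) := QuotientGroup.congr C C d.α hCα
  let ρ' : MulAut (Q ⧸ C) := QuotientGroup.congr C C d.ρ hCρ
  have hα' : ∀ x : Q, α' (x : Q ⧸ C) = ((d.α x : Q) : Q ⧸ C) := fun x => rfl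
  have hρ' : ∀ x : Q, ρ' (x : Q ⧸ C) = ((d.ρ x : Q) : Q ⧸ C) := fun x => rfl
  have hρp : ∀ (k : ℕ) (x : Q), (ρ' ^ k) (x : Q ⧸ C) = (((d.ρ ^ k) x : Q) : Q ⧸ C) := by
    intro k
    induction k with
    | zero => intro x; rfl
    | succ k ih => intro x; rw [pow_succ', pow_succ', MulAut.mul_apply, MulAut.mul_apply, ih, hρ']
  have hfix : ∀ x : Q, α' (x : Q ⧸ C) = x ↔ x ∈ d.D := by
    intro x
    rw [hα', eq_comm, QuotientGroup.eq]
    rfl
  have hαα : ∀ v, α' (α' v) = v := fun v => by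
    induction v using QuotientGroup.induction_on with
    | _ x => rw [hα', hα', d.αα]
  -- some element of `D` outside the fixed points
  obtain ⟨x0, hx0⟩ := hne
  have : Nontrivial (Q ⧸ C) := ⟨⟨(x0 : Q ⧸ C), 1, fun h => hx0 ((QuotientGroup.eq_one_iff x0).1 h)⟩⟩
  obtain ⟨v, -, hv1, hvf⟩ := exists_fixed_center (d.two.to_quotient C) α' hαα
  obtain ⟨v0, rfl⟩ := QuotientGroup.mk_surjective v
  have hv0 : v0 ∈ d.D := (hfix v0).1 hvf
  have hv0' : d.α v0 ≠ v0 := fun h => hv1 ((QuotientGroup.eq_one_iff v0).2 h)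
  have hsurj : ∀ c, d.α c = c → ∃ x ∈ d.D, d.dl x = c := fun c hc => by
    refine d.fix_subset (S := {c | ∃ x ∈ d.D, d.dl x = c}) ⟨1, one_mem _, d.dl_one⟩ ?_
      ⟨v0, hv0, rfl⟩ hv0 (fun h => hv0' ((d.dl_eq_one_iff v0).1 h)) hc
    rintro _ ⟨x, hx, rfl⟩
    refine ⟨d.ρ x, ?_, d.dl_ρ x⟩
    show d.α (d.dl (d.ρ x)) = d.dl (d.ρ x)
    rw [d.dl_ρ]; exact d.ρ_fix hx
  let δh : ↥d.D →* ↥C :=
    MonoidHom.mk' (fun x => ⟨d.dl x, x.2⟩) fun a b => Subtype.ext (d.dl_mul_D a.2 b)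
  have hδs : Function.Surjective δh := fun ⟨c, hc⟩ => by
    obtain ⟨x, hx, rfl⟩ := hsurj c hc; exact ⟨⟨x, hx⟩, rfl⟩
  have hδk : δh.ker = C.subgroupOf d.D := by
    ext x
    rw [MonoidHom.mem_ker, Subgroup.mem_subgroupOf]
    exact ⟨fun h => (d.dl_eq_one_iff x).1 (congrArg Subtype.val h),
      fun h => Subtype.ext ((d.dl_eq_one_iff x).2 h)⟩
  have hcard : Nat.card ↥(fixSub α') = 2 ^ n := by
    have hDeq : fixSub α' = d.D.map (QuotientGroup.mk' C) := by
      ext v
      obtain ⟨x, rfl⟩ := QuotientGroup.mk_surjective v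
      refine ⟨fun h => ⟨x, (hfix x).1 h, rfl⟩, ?_⟩
      rintro ⟨y, hy, hyx⟩
      rw [← hyx]
      exact (hfix y).2 hy
    rw [hDeq]
    let g : ↥d.D →* Q ⧸ C := (QuotientGroup.mk' C).comp d.D.subtype
    have hg : g.range = d.D.map (QuotientGroup.mk' C) := by
      rw [MonoidHom.range_comp, Subgroup.range_subtype]
    have hgk : g.ker = δh.ker := by
      rw [hδk]; ext x; exact QuotientGroup.eq_one_iff _
    rw [← hg, ← Subgroup.index_ker, hgk, Subgroup.index_ker, MonoidHom.range_eq_top.2 hδs,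
      Subgroup.card_top]
    exact d.card_fix
  refine ⟨hN,
    { α := α'
      ρ := ρ'
      two := d.two.to_quotient C
      αα := hαα
      comm := fun v => by
        induction v using QuotientGroup.induction_on with
        | _ x => rw [hρ', hα', hα', hρ', d.comm]
      card_fix := hcard
      sq_fix := fun v hv => by
        induction v using QuotientGroup.induction_on with
        | _ x =>
          rw [← QuotientGroup.mk_mul, QuotientGroup.eq_one_iff]
          exact d.sq_mem_fix_of_D ((hfix x).1 hv)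
      trans := fun u v hu hv hu1 hv1 => by
        obtain ⟨x, rfl⟩ := QuotientGroup.mk_surjective u
        obtain ⟨y, rfl⟩ := QuotientGroup.mk_surjective v
        have hx := (hfix x).1 hu
        have hy := (hfix y).1 hv
        obtain ⟨k, hk⟩ := d.trans (d.dl x) (d.dl y) hx hy
          (fun h => hu1 ((QuotientGroup.eq_one_iff x).2 ((d.dl_eq_one_iff x).1 h)))
          (fun h => hv1 ((QuotientGroup.eq_one_iff y).2 ((d.dl_eq_one_iff y).1 h)))
        refine ⟨k, ?_⟩
        rw [hρp, QuotientGroup.eq]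
        have hxk : (d.ρ ^ k) x ∈ d.D := by
          show d.α (d.dl _) = d.dl _
          rw [d.dl_ρ_pow, d.α_ρ_pow, (hx : d.α (d.dl x) = d.dl x)]
        show d.α _ = _
        rw [← d.dl_eq_one_iff, d.dl_mul_D (inv_mem hxk)]
        have h1 := d.dl_mul_D (inv_mem hxk) ((d.ρ ^ k) x)
        rw [inv_mul_cancel, d.dl_one, d.dl_ρ_pow, hk] at h1
        exact h1.symm
      period := MulEquiv.ext fun v => by
        induction v using QuotientGroup.induction_on with
        | _ x => rw [hρp, d.period, MulAut.one_apply, MulAut.one_apply]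
      two_le := d.two_le }, hα', hρ'⟩

end Datum

end Cfsg.Agent.Lib.H59.TwoAut
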