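import Mathlib
import Cfsg.Agent.Lib.H59.TwoAut.Basic

/-!
The fixed points as the additive group of the field with `2 ^ n` elements, and the basic criterion
for commutativity.
-/

set_option autoImplicit false

namespace Cfsg.Agent.Lib.H59.TwoAut

open scoped commutatorElement

variable {Q : Type*} [Group Q] [Finite Q] {n : ℕ}

/-- Coordinates on the fixed points. -/
structure Coord (d : Datum Q n) (F : Type) [Field F] [Fintype F] where
  card_F : Fintype.card F = 2 ^ n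
  charTwo : CharP F 2
  ζ : F
  gen : ∀ t : F, t ≠ 0 → ∃ k : ℕ, ζ ^ k = t
  ζ_period : ζ ^ (2 ^ n - 1) = 1
  φ : Q → F
  φ_mul : ∀ a b, d.α a = a → d.α b = b → φ (a * b) = φ a + φ b
  φ_eq_zero : ∀ a, d.α a = a → (φ a = 0 ↔ a = 1)
  φ_surj : ∀ t : F, ∃ a, d.α a = a ∧ φ a = t
  φ_ρ : ∀ a, d.α a = a → φ (d.ρ a) = ζ * φ a

theorem exists_coord (d : Datum Q n) :
    ∃ (F : Type) (_ : Field F) (_ : Fintype F), Nonempty (Coord d F) := by
  classical
  set C := fixSub d.α with hC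
  letI : CommGroup ↥C :=
    { (inferInstance : Group ↥C) with mul_comm := fun a b => Subtype.ext (d.central b.2 a) }
  let ρe : AddMonoid.End (Additive ↥C) :=
    MonoidHom.toAdditive (MonoidHom.mk' (fun x : ↥C => (⟨d.ρ x, d.ρ_fix x.2⟩ : ↥C))
      fun a b => Subtype.ext (map_mul d.ρ _ _))
  have hρe : ∀ x : ↥C, ((ρe (Additive.ofMul x)).toMul : Q) = d.ρ x := fun x => rfl
  have hρk : ∀ (k : ℕ) (x : ↥C), (((ρe ^ k) (Additive.ofMul x)).toMul : Q) = (d.ρ ^ k) x := by
    intro k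
    induction k with
    | zero => intro x; rfl
    | succ k ih =>
      intro x
      rw [pow_succ', pow_succ']
      show d.ρ (((ρe ^ k) (Additive.ofMul x)).toMul : Q) = d.ρ ((d.ρ ^ k) x)
      rw [ih]
  set R := Subring.centralizer ({ρe} : Set (AddMonoid.End (Additive ↥C))) with hR
  have hnt : Nontrivial ↥C := Finite.one_lt_card_iff_nontrivial.1 d.one_lt_card_fix
  obtain ⟨c0, hc0⟩ := exists_ne (1 : ↥C)
  have hc0' : (c0 : Q) ≠ 1 := fun h => hc0 (Subtype.ext h)
  have horb : ∀ x : ↥C, x ≠ 1 → ∃ k : ℕ, (ρe ^ k) (Additive.ofMul c0) = Additive.ofMul x := by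
    intro x hx
    obtain ⟨k, hk⟩ := d.trans c0 x c0.2 x.2 hc0' fun h => hx (Subtype.ext h)
    exact ⟨k, Additive.toMul.injective (Subtype.ext ((hρk k c0).trans hk))⟩
  have hmemR : ∀ f : AddMonoid.End (Additive ↥C), f ∈ R → ∀ v, f (ρe v) = ρe (f v) := fun f hf v =>
    (DFunLike.congr_fun (Subring.mem_centralizer_iff.1 hf ρe rfl) v).symm
  have hpowR : ∀ k : ℕ, ρe ^ k ∈ R := fun k => Subring.mem_centralizer_iff.2 fun g hg => by
    rw [Set.mem_singleton_iff.1 hg]; exact (Commute.self_pow ρe k).eq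
  let ev : ↥R →+ Additive ↥C :=
    AddMonoidHom.mk' (fun f => (f : AddMonoid.End (Additive ↥C)) (Additive.ofMul c0)) fun _ _ => rfl
  have hevinj : Function.Injective ev := by
    intro f g hfg
    refine Subtype.ext (DFunLike.ext _ _ fun v => ?_)
    by_cases hv : v = 0
    · rw [hv]; exact (map_zero _).trans (map_zero _).symm
    obtain ⟨k, hk⟩ := horb v.toMul fun h => hv (Additive.toMul.injective h)
    have key : ∀ (f : ↥R) (j : ℕ), (f : AddMonoid.End (Additive ↥C))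
        ((ρe ^ j) (Additive.ofMul c0)) = (ρe ^ j) (ev f) := by
      intro f j
      induction j with
      | zero => rfl
      | succ j ih =>
        rw [pow_succ']
        show (f : AddMonoid.End (Additive ↥C)) (ρe ((ρe ^ j) (Additive.ofMul c0))) =
          ρe ((ρe ^ j) (ev f))
        rw [hmemR _ f.2, ih]
    rw [ofMul_toMul] at hk
    rw [← hk, key, key, hfg]
  have hevsurj : Function.Surjective ev := by
    intro v
    by_cases hv : v = 0
    · exact ⟨0, by rw [hv, map_zero]⟩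
    obtain ⟨k, hk⟩ := horb v.toMul fun h => hv (Additive.toMul.injective h)
    exact ⟨⟨ρe ^ k, hpowR k⟩, hk⟩
  have helems : ∀ f : ↥R, f ≠ 0 → ∃ k : ℕ, f = ⟨ρe ^ k, hpowR k⟩ := by
    intro f hf
    obtain ⟨k, hk⟩ := horb (ev f).toMul fun h => hf (hevinj (by
      rw [map_zero]; exact Additive.toMul.injective h))
    exact ⟨k, hevinj hk.symm⟩
  have hN : 1 ≤ 2 ^ n - 1 := by
    have := Nat.pow_le_pow_right (show 0 < 2 by norm_num) d.two_le
    omega
  have hρN : ρe ^ (2 ^ n - 1) = 1 := DFunLike.ext _ _ fun v => by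
    refine Additive.toMul.injective (Subtype.ext ?_)
    have h := hρk (2 ^ n - 1) v.toMul
    rw [ofMul_toMul] at h
    rw [h, d.period]
    rfl
  have hne01 : (0 : ↥R) ≠ 1 := fun h => hc0 (by
    have h' := congrArg ev h
    rw [map_zero] at h'
    exact Additive.ofMul.injective h'.symm)
  have hfield : IsField ↥R := by
    refine ⟨⟨0, 1, hne01⟩, fun f g => ?_, fun {f} hf => ?_⟩
    · by_cases hf : f = 0
      · simp [hf]
      by_cases hg : g = 0
      · simp [hg]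
      obtain ⟨j, rfl⟩ := helems f hf
      obtain ⟨k, rfl⟩ := helems g hg
      exact Subtype.ext ((Commute.pow_pow (Commute.refl ρe) j k).eq)
    · obtain ⟨j, rfl⟩ := helems f hf
      refine ⟨⟨ρe ^ (j * (2 ^ n - 1 - 1)), hpowR _⟩, Subtype.ext ?_⟩
      show ρe ^ j * ρe ^ (j * (2 ^ n - 1 - 1)) = 1
      rw [← pow_add, show j + j * (2 ^ n - 1 - 1) = (2 ^ n - 1) * j by
        obtain ⟨m, hm⟩ : ∃ m, 2 ^ n - 1 = m + 1 := ⟨2 ^ n - 1 - 1, by omega⟩
        rw [hm]; simp; ring, pow_mul, hρN, one_pow]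
  letI := hfield.toField
  have : Finite ↥R := Finite.of_injective ev hevinj
  letI : Fintype ↥R := Fintype.ofFinite ↥R
  have : Fact (Nat.Prime 2) := ⟨Nat.prime_two⟩
  have hn0 : n ≠ 0 := by have := d.two_le; omega
  letI : Fintype (GaloisField 2 n) := Fintype.ofFinite _
  have hcardR : Fintype.card ↥R = Fintype.card (GaloisField 2 n) := by
    rw [← Nat.card_eq_fintype_card, ← Nat.card_eq_fintype_card, GaloisField.card 2 n hn0,
      Nat.card_congr (Equiv.ofBijective ev ⟨hevinj, hevsurj⟩)]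
    exact (Nat.card_congr Additive.toMul).trans d.card_fix
  let e : ↥R ≃+* GaloisField 2 n := FiniteField.ringEquivOfCardEq hcardR
  let evI := Equiv.ofBijective ev ⟨hevinj, hevsurj⟩
  let φ : Q → GaloisField 2 n := fun x =>
    if hx : x ∈ C then e (evI.symm (Additive.ofMul ⟨x, hx⟩)) else 0
  refine ⟨GaloisField 2 n, inferInstance, inferInstance,
    ⟨{ card_F := by rw [← Nat.card_eq_fintype_card]; exact GaloisField.card 2 n hn0
       charTwo := inferInstance
       ζ := e ⟨ρe, by simpa using hpowR 1⟩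
       gen := fun t ht => ?_
       ζ_period := ?_
       φ := φ
       φ_mul := fun a b ha hb => ?_
       φ_eq_zero := fun a ha => ?_
       φ_surj := fun t => ?_
       φ_ρ := fun a ha => ?_ }⟩⟩
  · obtain ⟨f, rfl⟩ := e.surjective t
    obtain ⟨k, rfl⟩ := helems f fun h => ht (by rw [h, map_zero])
    exact ⟨k, by rw [← map_pow]; exact congrArg e (Subtype.ext (by simp))⟩
  · rw [← map_pow, ← map_one e]
    exact congrArg e (Subtype.ext (by simpa using hρN))
  · simp only [φ, dif_pos (show a ∈ C from ha), dif_pos (show b ∈ C from hb),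
      dif_pos (show a * b ∈ C from mul_mem ha hb), ← map_add]
    refine congrArg e (evI.injective ?_)
    rw [Equiv.apply_symm_apply]
    rw [show ⇑evI = ⇑ev from rfl, map_add]
    show _ = evI _ + evI _
    rw [Equiv.apply_symm_apply, Equiv.apply_symm_apply]
    rfl
  · simp only [φ, dif_pos (show a ∈ C from ha), map_eq_zero_iff e e.injective,
      Equiv.symm_apply_eq]
    show Additive.ofMul (⟨a, ha⟩ : ↥C) = ev 0 ↔ a = 1
    rw [map_zero, ofMul_eq_zero]
    exact ⟨fun h => congrArg Subtype.val h, fun h => Subtype.ext h⟩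
  · obtain ⟨f, rfl⟩ := e.surjective t
    refine ⟨((ev f).toMul : Q), (ev f).toMul.2, ?_⟩
    simp only [φ, dif_pos (show ((ev f).toMul : Q) ∈ C from (ev f).toMul.2)]
    exact congrArg e (evI.symm_apply_apply f)
  · simp only [φ, dif_pos (show a ∈ C from ha), dif_pos (show d.ρ a ∈ C from d.ρ_fix ha),
      ← map_mul]
    refine congrArg e (evI.injective ?_)
    rw [Equiv.apply_symm_apply]
    show _ = ρe (evI (evI.symm _))
    rw [Equiv.apply_symm_apply]
    rfl

namespace Coord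

variable {d : Datum Q n} {F : Type} [Field F] [Fintype F] (c : Coord d F)
include c

theorem φ_one : c.φ 1 = 0 := (c.φ_eq_zero 1 (map_one _)).2 rfl

theorem φ_inv (a : Q) (ha : d.α a = a) : c.φ a⁻¹ = c.φ a := by rw [d.inv_fix ha]

theorem φ_injOn (a b : Q) (ha : d.α a = a) (hb : d.α b = b) (h : c.φ a = c.φ b) : a = b := by
  have := c.charTwo
  have h1 : c.φ (a⁻¹ * b) = 0 := by
    rw [c.φ_mul _ _ ((fixSub d.α).inv_mem ha) hb, c.φ_inv a ha, h, CharTwo.add_self_eq_zero]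
  exact inv_mul_eq_one.1 ((c.φ_eq_zero _ ((fixSub d.α).mul_mem ((fixSub d.α).inv_mem ha) hb)).1 h1)

/-- Commutators with fixed values give a symmetric, additive pairing. -/
theorem φ_comm_mul {x x' y : Q} (h : d.α ⁅x, y⁆ = ⁅x, y⁆) (h' : d.α ⁅x', y⁆ = ⁅x', y⁆) :
    c.φ ⁅x * x', y⁆ = c.φ ⁅x, y⁆ + c.φ ⁅x', y⁆ := by
  have e : ⁅x * x', y⁆ = x * ⁅x', y⁆ * x⁻¹ * ⁅x, y⁆ := by
    simp only [commutatorElement_def]; group
  rw [e, d.central h' x, mul_inv_cancel_right, c.φ_mul _ _ h' h, add_comm]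

theorem φ_comm_swap {x y : Q} (h : d.α ⁅x, y⁆ = ⁅x, y⁆) : c.φ ⁅y, x⁆ = c.φ ⁅x, y⁆ := by
  rw [← commutatorElement_inv, c.φ_inv _ h]

/-- A `ρ`-invariant subgroup with fixed commutators, mapped onto the field by an additive weight one
map whose kernel is central in it, is commutative. -/
theorem commute_of_pairing (S : Subgroup Q) (hSρ : ∀ x ∈ S, d.ρ x ∈ S)
    (hcC : ∀ x ∈ S, ∀ y ∈ S, d.α ⁅x, y⁆ = ⁅x, y⁆) (η : Q → F)
    (hη : ∀ x ∈ S, ∀ y ∈ S, η (x * y) = η x + η y) (hsurj : ∀ t, ∃ x ∈ S, η x = t)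
    (hηρ : ∀ x ∈ S, η (d.ρ x) = c.ζ * η x)
    (hker : ∀ x ∈ S, η x = 0 → ∀ y ∈ S, x * y = y * x) : ∀ x ∈ S, ∀ y ∈ S, x * y = y * x := by
  have := c.charTwo
  choose s hsS hs using hsurj
  have hη1 : η 1 = 0 := by
    have h := hη 1 (one_mem _) 1 (one_mem _)
    rw [mul_one] at h
    exact left_eq_add.1 h
  have hdiv : ∀ x ∈ S, ∀ x' ∈ S, η x = η x' → η (x⁻¹ * x') = 0 := by
    intro x hx x' hx' h
    have h1 := hη x hx (x⁻¹ * x') (mul_mem (inv_mem hx) hx')
    rw [mul_inv_cancel_left, ← h] at h1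
    exact left_eq_add.1 h1
  have hdep : ∀ x ∈ S, ∀ x' ∈ S, η x = η x' → ∀ y ∈ S, c.φ ⁅x, y⁆ = c.φ ⁅x', y⁆ := by
    intro x hx x' hx' h y hy
    have hk := mul_mem (inv_mem hx) hx'
    have h1 : ⁅x⁻¹ * x', y⁆ = 1 :=
      commutatorElement_eq_one_iff_mul_comm.2 (hker _ hk (hdiv x hx x' hx' h) y hy)
    have h2 := c.φ_comm_mul (hcC x hx y hy) (hcC _ hk y hy)
    rw [mul_inv_cancel_left, h1, c.φ_one, add_zero] at h2
    exact h2.symm
  have hdep2 : ∀ x ∈ S, ∀ y ∈ S, ∀ y' ∈ S, η y = η y' → c.φ ⁅x, y⁆ = c.φ ⁅x, y'⁆ := by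
    intro x hx y hy y' hy' h
    rw [← c.φ_comm_swap (hcC x hx y hy), ← c.φ_comm_swap (hcC x hx y' hy'), hdep y hy y' hy' h x hx]
  let B : F → F → F := fun a b => c.φ ⁅s a, s b⁆
  have hl : ∀ a a' b, B (a + a') b = B a b + B a' b := fun a a' b => by
    show c.φ _ = c.φ _ + c.φ _
    rw [← c.φ_comm_mul (hcC _ (hsS a) _ (hsS b)) (hcC _ (hsS a') _ (hsS b))]
    exact hdep _ (hsS _) _ (mul_mem (hsS a) (hsS a'))
      (by rw [hs, hη _ (hsS a) _ (hsS a'), hs, hs]) _ (hsS b)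
  have hsym : ∀ a b, B b a = B a b := fun a b => c.φ_comm_swap (hcC _ (hsS a) _ (hsS b))
  have hr : ∀ a b b', B a (b + b') = B a b + B a b' := fun a b b' => by
    rw [hsym (b + b') a, hl, hsym a b, hsym a b']
  have hw : ∀ a b, B (c.ζ * a) (c.ζ * b) = c.ζ * B a b := fun a b => by
    show c.φ _ = c.ζ * c.φ _
    rw [← c.φ_ρ _ (hcC _ (hsS a) _ (hsS b)), map_commutatorElement,
      hdep _ (hsS _) _ (hSρ _ (hsS a)) (by rw [hs, hηρ _ (hsS a), hs]) _ (hsS _),
      hdep2 _ (hSρ _ (hsS a)) _ (hsS _) _ (hSρ _ (hsS b)) (by rw [hs, hηρ _ (hsS b), hs])]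
  have halt : B 1 1 = 0 := by show c.φ _ = 0; rw [commutatorElement_self]; exact c.φ_one
  intro x hx y hy
  have h0 := eq_zero_of_alternating c.gen B hl hr hw halt (η x) (η y)
  have h1 : c.φ ⁅x, y⁆ = 0 := by
    rw [hdep x hx _ (hsS (η x)) (hs _).symm y hy,
      hdep2 _ (hsS (η x)) y hy _ (hsS (η y)) (hs _).symm]
    exact h0
  exact commutatorElement_eq_one_iff_mul_comm.1 ((c.φ_eq_zero _ (hcC x hx y hy)).1 h1)

/-- `D` is commutative once the group is bigger than the fixed points. -/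
theorem commute_D (hne : ∃ x, d.α x ≠ x) : ∀ x ∈ d.D, ∀ y ∈ d.D, x * y = y * x := by
  obtain ⟨hN, d', hα', hρ'⟩ := d.exists_quot hne
  have hDc : ∀ x ∈ d.D, ∀ y : Q, d.α ⁅x, y⁆ = ⁅x, y⁆ := by
    intro x hx y
    have h1 : d'.α (x : Q ⧸ fixSub d.α) = x := by
      rw [hα']
      exact (QuotientGroup.eq.2 hx).symm
    have h2 := d'.central h1 (y : Q ⧸ fixSub d.α)
    refine (QuotientGroup.eq_one_iff (N := fixSub d.α) ⁅x, y⁆).1 ?_
    rw [commutatorElement_def, QuotientGroup.mk_mul, QuotientGroup.mk_mul, QuotientGroup.mk_mul,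
      QuotientGroup.mk_inv, QuotientGroup.mk_inv, ← h2, mul_inv_cancel_right, mul_inv_cancel]
  refine c.commute_of_pairing d.D (fun x hx => ?_) (fun x hx y _ => hDc x hx y)
    (fun x => c.φ (d.dl x)) (fun x hx y hy => ?_) (fun t => ?_) (fun x hx => ?_) fun x hx h y _ => ?_
  · show d.α (d.dl (d.ρ x)) = d.dl (d.ρ x)
    rw [d.dl_ρ]; exact d.ρ_fix hx
  · show c.φ (d.dl (x * y)) = _
    rw [d.dl_mul_D hx, c.φ_mul _ _ hx hy]
  · obtain ⟨a, ha, rfl⟩ := c.φ_surj t
    suffices h : ∀ a, d.α a = a → ∃ x ∈ d.D, d.dl x = a by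
      obtain ⟨x, hx, e⟩ := h a ha
      exact ⟨x, hx, congrArg c.φ e⟩
    intro a ha
    obtain ⟨v, -, hv1, hvf⟩ := @exists_fixed_center (Q ⧸ fixSub d.α) _ _ d'.two
      (by obtain ⟨x, hx⟩ := hne
          exact ⟨⟨(x : Q ⧸ fixSub d.α), 1, fun h => hx ((QuotientGroup.eq_one_iff x).1 h)⟩⟩)
      d'.α d'.αα
    obtain ⟨v, rfl⟩ := QuotientGroup.mk_surjective v
    rw [hα'] at hvf
    have hv : v ∈ d.D := QuotientGroup.eq.1 hvf.symm
    refine d.fix_subset (S := {a | ∃ x ∈ d.D, d.dl x = a}) ⟨1, one_mem _, d.dl_one⟩ ?_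
      ⟨v, hv, rfl⟩ hv (fun h => hv1 ((QuotientGroup.eq_one_iff v).2 ((d.dl_eq_one_iff v).1 h))) ha
    rintro _ ⟨x, hx, rfl⟩
    refine ⟨d.ρ x, ?_, d.dl_ρ x⟩
    show d.α (d.dl (d.ρ x)) = d.dl (d.ρ x)
    rw [d.dl_ρ]; exact d.ρ_fix hx
  · show c.φ (d.dl (d.ρ x)) = _
    rw [d.dl_ρ, c.φ_ρ _ hx]
  · exact (d.central ((d.dl_eq_one_iff x).1 ((c.φ_eq_zero _ hx).1 h)) y).symm

/-- If the image of `dl` is central, the group is commutative. -/
theorem commute_of_central (hz : ∀ x y : Q, d.dl x * y = y * d.dl x) : ∀ x y : Q, x * y = y * x := by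
  classical
  let f : Q →* Q := MonoidHom.mk' d.dl fun x y => by
    rw [d.dl_mul, ← hz x y⁻¹, inv_mul_cancel_right]
  have hf : ∀ x, f x = d.dl x := fun x => rfl
  have hiter : ∀ (i : ℕ) (x : Q), f^[i + 1] x = (f x) ^ (((-2) ^ i : ℤ)) := by
    intro i
    induction i with
    | zero => intro x; simp
    | succ i ih =>
      intro x
      rw [Function.iterate_succ_apply', ih, map_zpow, pow_succ', zpow_mul, hf (f x), hf x, d.dl_dl]
      congr 1
      rw [zpow_neg, zpow_two]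
  obtain ⟨e, he⟩ := d.two.exists_card_eq
  have hex : ∃ M, ∀ x, f^[M + 1] x = 1 := ⟨e, fun x => by
    have hp : f x ^ (2 ^ e : ℕ) = 1 := he ▸ pow_card_eq_one'
    rw [hiter, neg_pow, mul_comm, zpow_mul,
      show ((2 : ℤ) ^ e) = ((2 ^ e : ℕ) : ℤ) by norm_num, zpow_natCast, hp, one_zpow]⟩
  set M := Nat.find hex with hM
  have hMs : ∀ x, f^[M + 1] x = 1 := Nat.find_spec hex
  by_cases hM0 : M = 0
  · intro x y
    have := hMs y
    rw [hM0] at this
    exact d.central ((d.dl_eq_one_iff y).1 this) x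
  obtain ⟨x0, hx0⟩ : ∃ x0, f^[M] x0 ≠ 1 := by
    have h := Nat.find_min hex (show M - 1 < Nat.find hex by omega)
    push Not at h
    obtain ⟨x0, hx0⟩ := h
    exact ⟨x0, by rwa [show M - 1 + 1 = M by omega] at hx0⟩
  have hfix : ∀ x, d.α (f^[M] x) = f^[M] x := fun x => by
    rw [← d.dl_eq_one_iff]
    have := hMs x
    rw [Function.iterate_succ_apply'] at this
    exact this
  have hmul : ∀ (i : ℕ) x y, f^[i] (x * y) = f^[i] x * f^[i] y := by
    intro i
    induction i with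
    | zero => intro x y; rfl
    | succ i ih => intro x y; rw [Function.iterate_succ_apply', Function.iterate_succ_apply',
        Function.iterate_succ_apply', ih, map_mul]
  have hρi : ∀ (i : ℕ) x, f^[i] (d.ρ x) = d.ρ (f^[i] x) := by
    intro i
    induction i with
    | zero => intro x; rfl
    | succ i ih => intro x; rw [Function.iterate_succ_apply', Function.iterate_succ_apply', ih,
        hf, hf, d.dl_ρ]
  have hsurj : ∀ a, d.α a = a → ∃ x, f^[M] x = a := fun a ha => by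
    refine d.fix_subset (S := Set.range (f^[M])) ⟨1, ?_⟩ ?_ ⟨x0, rfl⟩ (hfix x0) hx0 ha
    · have h := hmul M 1 1
      rw [mul_one] at h
      exact left_eq_mul.1 h
    · rintro _ ⟨x, rfl⟩; exact ⟨d.ρ x, hρi M x⟩
  -- the kernel of the last iterate is the image of `f`
  let θ : Q →* Q := MonoidHom.mk' (f^[M]) (hmul M)
  have hrange : θ.range = fixSub d.α := by
    ext a
    exact ⟨by rintro ⟨x, rfl⟩; exact hfix x, fun ha => hsurj a ha⟩
  have hker : θ.ker = f.range := by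
    refine (Subgroup.eq_of_le_of_card_ge ?_ ?_).symm
    · rintro _ ⟨x, rfl⟩
      rw [MonoidHom.mem_ker]
      show f^[M] (f x) = 1
      rw [← Function.iterate_succ_apply]
      exact hMs x
    · have h1 := θ.ker.card_mul_index
      rw [Subgroup.index_ker, hrange] at h1
      have h2 := f.ker.card_mul_index
      rw [Subgroup.index_ker] at h2
      have h3 : f.ker = fixSub d.α := by
        ext x; exact d.dl_eq_one_iff x
      rw [h3, ← h1, mul_comm] at h2
      exact (Nat.eq_of_mul_eq_mul_right Nat.card_pos h2).ge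
  intro x y
  refine c.commute_of_pairing ⊤ (fun _ _ => Subgroup.mem_top _) (fun a _ b _ => ?_)
    (fun a => c.φ (f^[M] a)) (fun a _ b _ => ?_) (fun t => ?_) (fun a _ => ?_)
    (fun a _ ha b _ => ?_) x (Subgroup.mem_top x) y (Subgroup.mem_top y)
  · rw [map_commutatorElement, d.α_eq a, d.α_eq b]
    simp only [commutatorElement_def]
    have h1 : ∀ g, d.dl a * g = g * d.dl a := hz a
    have h2 : ∀ g, d.dl b * g = g * d.dl b := hz b
    rw [mul_inv_rev, mul_inv_rev]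
    calc a * d.dl a * (b * d.dl b) * ((d.dl a)⁻¹ * a⁻¹) * ((d.dl b)⁻¹ * b⁻¹)
        = a * (d.dl a * (b * d.dl b)) * (d.dl a)⁻¹ * a⁻¹ * ((d.dl b)⁻¹ * b⁻¹) := by group
      _ = a * b * (d.dl b * a⁻¹) * (d.dl b)⁻¹ * b⁻¹ := by rw [h1]; group
      _ = a * b * a⁻¹ * b⁻¹ := by rw [h2]; group
  · show c.φ (f^[M] (a * b)) = _
    rw [hmul, c.φ_mul _ _ (hfix a) (hfix b)]
  · obtain ⟨a, ha, rfl⟩ := c.φ_surj t
    obtain ⟨x, hx⟩ := hsurj a ha
    exact ⟨x, Subgroup.mem_top x, congrArg c.φ hx⟩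
  · show c.φ (f^[M] (d.ρ a)) = _
    rw [hρi, c.φ_ρ _ (hfix a)]
  · have hak : a ∈ θ.ker := MonoidHom.mem_ker.2 ((c.φ_eq_zero _ (hfix a)).1 ha)
    rw [hker] at hak
    obtain ⟨u, rfl⟩ := hak
    exact hz u b

end Coord

end Cfsg.Agent.Lib.H59.TwoAut
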