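import Mathlib
import Cfsg.Agent.Lib.H59.TwoAut.Coord

/-!
A non-abelian group with such automorphisms has order `q ^ 3` and exponent two modulo the fixed
points, which form its centre.
-/

set_option autoImplicit false

namespace Cfsg.Agent.Lib.H59.TwoAut

open scoped commutatorElement

variable {Q : Type*} [Group Q] [Finite Q] {n : ℕ}

namespace Datum

variable (d : Datum Q n)

/-- Commutators with elements of `D` are fixed. -/
theorem comm_D_fix (hne : ∃ x, d.α x ≠ x) {v : Q} (hv : v ∈ d.D) (y : Q) :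
    d.α ⁅v, y⁆ = ⁅v, y⁆ := by
  obtain ⟨hN, d', hα', -⟩ := d.exists_quot hne
  have h1 : d'.α (v : Q ⧸ fixSub d.α) = v := by
    rw [hα']; exact (QuotientGroup.eq.2 hv).symm
  have h2 := d'.central h1 (y : Q ⧸ fixSub d.α)
  refine (QuotientGroup.eq_one_iff (N := fixSub d.α) ⁅v, y⁆).1 ?_
  rw [commutatorElement_def, QuotientGroup.mk_mul, QuotientGroup.mk_mul, QuotientGroup.mk_mul,
    QuotientGroup.mk_inv, QuotientGroup.mk_inv, ← h2, mul_inv_cancel_right, mul_inv_cancel]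

theorem conj_D (hne : ∃ x, d.α x ≠ x) {v : Q} (hv : v ∈ d.D) (y : Q) :
    y⁻¹ * v * y ∈ d.D ∧ d.dl (y⁻¹ * v * y) = d.dl v := by
  have hk := d.comm_D_fix hne hv y⁻¹
  have e : y⁻¹ * v * y = v * ⁅v⁻¹, y⁻¹⁆ := by rw [commutatorElement_def]; group
  have hk' := d.comm_D_fix hne (inv_mem hv) y⁻¹
  refine ⟨e ▸ mul_mem hv (d.fix_le_D hk'), ?_⟩
  rw [e, d.dl_mul_D hv, (d.dl_eq_one_iff _).2 hk', mul_one]

theorem exists_dl_D (hne : ∃ x, d.α x ≠ x) {a : Q} (ha : d.α a = a) : ∃ x ∈ d.D, d.dl x = a := by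
  obtain ⟨hN, d', hα', -⟩ := d.exists_quot hne
  obtain ⟨x0, hx0⟩ := hne
  have : Nontrivial (Q ⧸ fixSub d.α) :=
    ⟨⟨(x0 : Q ⧸ fixSub d.α), 1, fun h => hx0 ((QuotientGroup.eq_one_iff x0).1 h)⟩⟩
  obtain ⟨v, -, hv1, hvf⟩ := exists_fixed_center d'.two d'.α d'.αα
  obtain ⟨v, rfl⟩ := QuotientGroup.mk_surjective v
  rw [hα'] at hvf
  have hv : v ∈ d.D := QuotientGroup.eq.1 hvf.symm
  refine d.fix_subset (S := {a | ∃ x ∈ d.D, d.dl x = a}) ⟨1, one_mem _, d.dl_one⟩ ?_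
    ⟨v, hv, rfl⟩ hv (fun h => hv1 ((QuotientGroup.eq_one_iff v).2 ((d.dl_eq_one_iff v).1 h))) ha
  rintro _ ⟨x, hx, rfl⟩
  refine ⟨d.ρ x, ?_, d.dl_ρ x⟩
  show d.α (d.dl (d.ρ x)) = d.dl (d.ρ x)
  rw [d.dl_ρ]; exact d.ρ_fix hx

theorem card_D (hne : ∃ x, d.α x ≠ x) : Nat.card ↥d.D = 2 ^ n * 2 ^ n := by
  let δh : ↥d.D →* ↥(fixSub d.α) :=
    MonoidHom.mk' (fun x => ⟨d.dl x, x.2⟩) fun a b => Subtype.ext (d.dl_mul_D a.2 b)
  have hs : Function.Surjective δh := fun ⟨a, ha⟩ => by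
    obtain ⟨x, hx, rfl⟩ := d.exists_dl_D hne ha
    exact ⟨⟨x, hx⟩, rfl⟩
  have hk : δh.ker = (fixSub d.α).subgroupOf d.D := by
    ext x
    rw [MonoidHom.mem_ker, Subgroup.mem_subgroupOf]
    exact ⟨fun h => (d.dl_eq_one_iff x).1 (congrArg Subtype.val h),
      fun h => Subtype.ext ((d.dl_eq_one_iff x).2 h)⟩
  have h := δh.ker.card_mul_index
  rw [Subgroup.index_ker, MonoidHom.range_eq_top.2 hs, Subgroup.card_top, hk,
    Nat.card_congr (Subgroup.subgroupOfEquivOfLe d.fix_le_D).toEquiv, d.card_fix] at h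
  exact h.symm

end Datum

/-- The case of an abelian quotient by the fixed points. -/
theorem abelian_quot (d : Datum Q n) {F : Type} [Field F] [Fintype F] (c : Coord d F)
    (hna : ¬ ∀ x y : Q, x * y = y * x) (hC : ∀ x y : Q, d.α ⁅x, y⁆ = ⁅x, y⁆) :
    Nat.card Q = (2 ^ n) ^ 3 ∧ (∀ x, d.α (x * x) = x * x) ∧
      Subgroup.center Q = fixSub d.α := by
  classical
  have hne : ∃ x, d.α x ≠ x := by
    by_contra h
    push Not at h
    exact hna fun x y => d.central (h y) x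
  have hsqZ : ∀ x y : Q, (x * x) * y = y * (x * x) := by
    intro x y
    rw [← commutatorElement_eq_one_iff_mul_comm,
      show ⁅x * x, y⁆ = x * ⁅x, y⁆ * x⁻¹ * ⁅x, y⁆ by simp only [commutatorElement_def]; group,
      d.central (hC x y) x, mul_inv_cancel_right]
    exact d.sq_fix _ (hC x y)
  have hdlc : ∀ {z : Q}, (∀ y, z * y = y * z) → ∀ y, d.dl z * y = y * d.dl z := by
    intro z hz y
    have h1 : ∀ y, d.α z * y = y * d.α z := fun y => by
      obtain ⟨y, rfl⟩ := d.α.surjective y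
      rw [← map_mul, ← map_mul, hz]
    have h2 : z⁻¹ * y = y * z⁻¹ := (Commute.inv_left (hz y)).eq
    show z⁻¹ * d.α z * y = y * (z⁻¹ * d.α z)
    rw [mul_assoc, h1, ← mul_assoc, h2, mul_assoc]
  -- `D` is not central
  have hDZ : ¬ ∀ v ∈ d.D, ∀ y, v * y = y * v := by
    intro hD
    refine hna (c.commute_of_central fun x => ?_)
    obtain ⟨v, hv, hve⟩ := d.exists_dl_D hne
      (show d.α ((d.dl x * d.dl x)⁻¹ * d.dl (x * x)) = (d.dl x * d.dl x)⁻¹ * d.dl (x * x) by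
        have e : d.dl (x * x) = (x⁻¹ * d.dl x * x * (d.dl x)⁻¹) * (d.dl x * d.dl x) := by
          rw [d.dl_mul]; group
        have hk : d.α (x⁻¹ * d.dl x * x * (d.dl x)⁻¹) = x⁻¹ * d.dl x * x * (d.dl x)⁻¹ := by
          have := hC x⁻¹ (d.dl x)
          rwa [commutatorElement_def, inv_inv] at this
        rw [e, ← d.central hk, inv_mul_cancel_left]
        exact hk)
    set z := (x * x)⁻¹ * v with hz
    have hzc : ∀ y, z * y = y * z := fun y =>
      ((Commute.inv_left (show Commute (x * x) y from hsqZ x y)).mul_left (hD v hv y)).eq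
    have h3 := d.dl_mul (x * x) z
    rw [mul_inv_cancel_left, hve, mul_assoc z⁻¹, ← hzc, inv_mul_cancel_left,
      ← hdlc (hsqZ x) (d.dl x * d.dl x)⁻¹] at h3
    have hdz : d.dl z = d.dl (d.dl x) := by rw [d.dl_dl]; exact (mul_left_cancel h3).symm
    have hu : d.α (z⁻¹ * d.dl x) = z⁻¹ * d.dl x := by
      have h5 := d.dl_mul z (z⁻¹ * d.dl x)
      rw [mul_inv_cancel_left, mul_assoc _ (d.dl z), hdlc hzc, inv_mul_cancel_left, hdz] at h5
      exact (d.dl_eq_one_iff _).1 (left_eq_mul.1 h5)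
    intro y
    calc d.dl x * y = z * (z⁻¹ * d.dl x * y) := by group
      _ = z * y * (z⁻¹ * d.dl x) := by rw [← d.central hu y]; group
      _ = y * d.dl x := by rw [hzc y]; group
  obtain ⟨v0, hv0, hv0Z⟩ : ∃ v ∈ d.D, ¬ ∀ y, v * y = y * v := by
    by_contra h
    push Not at h
    exact hDZ h
  have hDint : ∀ v ∈ d.D, (∀ y, v * y = y * v) → d.α v = v := by
    intro v hv hvc
    by_contra hvf
    apply hv0Z
    obtain ⟨v', ⟨hv', hv'c⟩, e⟩ : d.dl v0 ∈ {a | ∃ u, (u ∈ d.D ∧ ∀ y, u * y = y * u) ∧ d.dl u = a} := by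
      refine d.fix_subset (S := {a | ∃ u, (u ∈ d.D ∧ ∀ y, u * y = y * u) ∧ d.dl u = a})
        ⟨1, ⟨one_mem _, fun y => by rw [one_mul, mul_one]⟩, d.dl_one⟩ ?_
        ⟨v, ⟨hv, hvc⟩, rfl⟩ hv (fun h => hvf ((d.dl_eq_one_iff v).1 h)) hv0
      rintro _ ⟨u, ⟨hu, huc⟩, rfl⟩
      refine ⟨d.ρ u, ⟨?_, fun y => ?_⟩, d.dl_ρ u⟩
      · show d.α (d.dl (d.ρ u)) = d.dl (d.ρ u)
        rw [d.dl_ρ]; exact d.ρ_fix hu
      · obtain ⟨y, rfl⟩ := d.ρ.surjective y
        rw [← map_mul, ← map_mul, huc]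
    have hu : d.α (v'⁻¹ * v0) = v'⁻¹ * v0 := by
      have h5 := d.dl_mul_D hv' (v'⁻¹ * v0)
      rw [mul_inv_cancel_left, e] at h5
      exact (d.dl_eq_one_iff _).1 (left_eq_mul.1 h5)
    intro y
    calc v0 * y = v' * (v'⁻¹ * v0 * y) := by group
      _ = v' * y * (v'⁻¹ * v0) := by rw [← d.central hu y, mul_assoc]
      _ = y * v0 := by rw [hv'c y]; group
  have hZ : Subgroup.center Q = fixSub d.α := by
    refine le_antisymm (fun z hz => ?_) fun z hz => Subgroup.mem_center_iff.2 fun g => d.central hz g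
    have hzc : ∀ y, z * y = y * z := fun y => (Subgroup.mem_center_iff.1 hz y).symm
    show d.α z = z
    rw [← d.dl_eq_one_iff]
    have hpow : ∀ k : ℕ, d.α (d.dl z ^ k) = (d.dl z ^ k)⁻¹ := fun k => by
      rw [map_pow, d.α_dl, inv_pow]
    have hpc : ∀ (k : ℕ) y, d.dl z ^ k * y = y * d.dl z ^ k := fun k y =>
      (show Commute (d.dl z) y from hdlc hzc y).pow_left k
    have hex : ∃ k, d.dl z ^ 2 ^ k = 1 := d.two (d.dl z)
    have he0 := Nat.find_spec hex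
    rcases hk : Nat.find hex with _ | k
    · rw [hk, pow_zero, pow_one] at he0; exact he0
    rw [hk] at he0
    have hk' : d.dl z ^ 2 ^ k ≠ 1 := Nat.find_min hex (by omega)
    have hf : d.α (d.dl z ^ 2 ^ k) = d.dl z ^ 2 ^ k := by
      rw [hpow]
      exact inv_eq_of_mul_eq_one_right (by rw [← pow_add, ← mul_two, ← pow_succ, he0])
    exfalso
    rcases k with _ | k
    · rw [pow_zero, pow_one] at hf hk'
      exact hk' ((d.dl_eq_one_iff z).2 (hDint z hf hzc))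
    · have h4 : d.dl z ^ 2 ^ k ∈ d.D := by
        show d.α (d.dl _) = d.dl _
        have e : d.dl (d.dl z ^ 2 ^ k) = (d.dl z ^ 2 ^ (k + 1))⁻¹ := by
          show (d.dl z ^ 2 ^ k)⁻¹ * d.α (d.dl z ^ 2 ^ k) = _
          rw [hpow, ← mul_inv_rev, ← pow_add, ← mul_two, ← pow_succ]
        rw [e, map_inv, hf]
      have h5 := d.sq_fix _ (hDint _ h4 (hpc _))
      rw [← pow_add, ← mul_two, ← pow_succ] at h5
      exact hk' h5
  have hsq : ∀ x, d.α (x * x) = x * x := fun x => by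
    have h : x * x ∈ Subgroup.center Q := Subgroup.mem_center_iff.2 fun y => (hsqZ x y).symm
    rw [hZ] at h
    exact h
  refine ⟨?_, hsq, hZ⟩
  -- the map `x ↦ δ (δ x)`
  have hdD : ∀ x, d.dl x ∈ d.D := fun x => by
    show d.α (d.dl (d.dl x)) = d.dl (d.dl x)
    rw [d.dl_dl, map_inv, hsq]
  let θ : Q →* ↥(fixSub d.α) :=
    MonoidHom.mk' (fun x => ⟨d.dl (d.dl x), hdD x⟩) fun x y => Subtype.ext (by
      show d.dl (d.dl (x * y)) = d.dl (d.dl x) * d.dl (d.dl y)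
      rw [d.dl_mul, d.dl_mul_D (d.conj_D hne (hdD x) y).1, (d.conj_D hne (hdD x) y).2])
  have hker : θ.ker = d.D := by
    ext x
    rw [MonoidHom.mem_ker]
    exact ⟨fun h => (d.dl_eq_one_iff _).1 (congrArg Subtype.val h),
      fun h => Subtype.ext ((d.dl_eq_one_iff _).2 h)⟩
  obtain ⟨x0, hx0⟩ : ∃ x, x ∉ d.D := by
    by_contra h
    push Not at h
    exact hna fun x y => c.commute_D hne x (h x) y (h y)
  have hs : Function.Surjective θ := by
    rintro ⟨a, ha⟩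
    obtain ⟨x, hx⟩ : a ∈ Set.range (fun x => d.dl (d.dl x)) := by
      refine d.fix_subset (S := Set.range (fun x => d.dl (d.dl x)))
        ⟨1, by simp only [d.dl_one]⟩ ?_ ⟨x0, rfl⟩ (hdD x0)
        (fun h => hx0 ((d.dl_eq_one_iff _).1 h)) ha
      rintro _ ⟨x, rfl⟩
      exact ⟨d.ρ x, by simp only [d.dl_ρ]⟩
    exact ⟨x, Subtype.ext hx⟩
  have h := θ.ker.card_mul_index
  rw [Subgroup.index_ker, MonoidHom.range_eq_top.2 hs, Subgroup.card_top, hker, d.card_D hne,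
    d.card_fix] at h
  rw [← h]; ring

/-- The quotient by the fixed points cannot be non-abelian. -/
theorem nonabelian_quot_absurd (d : Datum Q n) {F : Type} [Field F] [Fintype F] (c : Coord d F)
    (hne : ∃ x, d.α x ≠ x) (hcardQ : Nat.card Q = (2 ^ n) ^ 4)
    (hsqD : ∀ x, x * x ∈ d.D) (hcD : ∀ x y : Q, ⁅x, y⁆ ∈ d.D)
    (hcen : ∀ y : Q, (∀ x : Q, d.α ⁅x, y⁆ = ⁅x, y⁆) → y ∈ d.D) : False := by
  classical
  have := c.charTwo
  have hDab := c.commute_D hne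
  let P : Subgroup Q :=
    { carrier := {x | d.dl x ∈ d.D}
      one_mem' := by
        show d.dl 1 ∈ d.D
        rw [d.dl_one]; exact one_mem _
      mul_mem' := fun {a b} ha hb => by
        show d.dl (a * b) ∈ d.D
        rw [d.dl_mul]
        exact mul_mem (d.conj_D hne ha b).1 hb
      inv_mem' := fun {a} ha => by
        show d.dl a⁻¹ ∈ d.D
        have e : d.dl a⁻¹ = (a⁻¹⁻¹ * d.dl a * a⁻¹)⁻¹ := by simp only [Datum.dl, map_inv]; group
        rw [e]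
        exact inv_mem (d.conj_D hne ha a⁻¹).1 }
  have hmemP : ∀ x, x ∈ P ↔ d.dl x ∈ d.D := fun x => Iff.rfl
  have hδP : ∀ x, d.dl x ∈ P := fun x => by
    rw [hmemP, d.dl_dl]; exact inv_mem (hsqD _)
  have hDP : d.D ≤ P := fun x hx => d.fix_le_D hx
  have hPρ : ∀ x ∈ P, d.ρ x ∈ P := fun x hx => by
    show d.α (d.dl (d.dl (d.ρ x))) = d.dl (d.dl (d.ρ x))
    rw [d.dl_ρ, d.dl_ρ]
    exact d.ρ_fix hx
  -- `θ y = δ δ y` on `P`
  have hθmul : ∀ a ∈ P, ∀ b : Q, d.dl (d.dl (a * b)) = d.dl (d.dl a) * d.dl (d.dl b) := fun a ha b => by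
    rw [d.dl_mul, d.dl_mul_D (d.conj_D hne ha b).1, (d.conj_D hne ha b).2]
  let θh : ↥P →* ↥(fixSub d.α) := MonoidHom.mk' (fun y => ⟨d.dl (d.dl y), y.2⟩) fun a b =>
    Subtype.ext (hθmul a a.2 b)
  have hθk : θh.ker = d.D.subgroupOf P := by
    ext x
    rw [MonoidHom.mem_ker, Subgroup.mem_subgroupOf]
    exact ⟨fun h => (d.dl_eq_one_iff _).1 (congrArg Subtype.val h),
      fun h => Subtype.ext ((d.dl_eq_one_iff _).2 h)⟩
  obtain ⟨x0, hx0⟩ : ∃ x, x ∉ P := by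
    by_contra h
    push Not at h
    have h1 := θh.ker.card_mul_index
    rw [Subgroup.index_ker, hθk, Nat.card_congr (Subgroup.subgroupOfEquivOfLe hDP).toEquiv,
      d.card_D hne, (Nat.card_congr (Equiv.subtypeUnivEquiv h) : Nat.card ↥P = Nat.card Q),
      hcardQ] at h1
    have h2 : Nat.card ↥θh.range ≤ 2 ^ n := d.card_fix ▸ Subgroup.card_le_card_group _
    have h3 : (2 ^ n) ^ 4 ≤ 2 ^ n * 2 ^ n * 2 ^ n := h1 ▸ Nat.mul_le_mul_left _ h2
    have h4 : 4 ≤ 2 ^ n := le_trans (by norm_num) (Nat.pow_le_pow_right (show 0 < 2 by norm_num) d.two_le)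
    nlinarith [Nat.mul_le_mul (Nat.mul_le_mul h4 h4) h4]
  -- `η x = δ δ δ x`
  have hηfix : ∀ x, d.α (d.dl (d.dl (d.dl x))) = d.dl (d.dl (d.dl x)) := fun x => hδP x
  have hηP : ∀ x, c.φ (d.dl (d.dl (d.dl x))) = 0 → x ∈ P := fun x h => by
    rw [c.φ_eq_zero _ (hηfix x), d.dl_eq_one_iff] at h
    exact h
  have hηsurj : ∀ a, d.α a = a → ∃ x, d.dl (d.dl (d.dl x)) = a := fun a ha => by
    refine d.fix_subset (S := Set.range fun x => d.dl (d.dl (d.dl x)))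
      ⟨1, by simp only [d.dl_one]⟩ ?_ ⟨x0, rfl⟩ (hηfix x0)
      (fun h => hx0 ((d.dl_eq_one_iff _).1 h)) ha
    rintro _ ⟨x, rfl⟩
    exact ⟨d.ρ x, by simp only [d.dl_ρ]⟩
  have hdec : ∀ y ∈ P, ∃ x, ∃ v ∈ d.D, y = d.dl x * v := by
    intro y hy
    obtain ⟨x, hx⟩ := hηsurj _ hy
    refine ⟨x, (d.dl x)⁻¹ * y, ?_, (mul_inv_cancel_left _ _).symm⟩
    have h1 := hθmul _ (hδP x) ((d.dl x)⁻¹ * y)
    rw [mul_inv_cancel_left, hx] at h1
    show d.α (d.dl _) = d.dl _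
    exact (d.dl_eq_one_iff _).1 (left_eq_mul.1 h1)
  have hDδ : ∀ v ∈ d.D, ∀ x, v * d.dl x = d.dl x * v := by
    intro v hv x
    have hfx := d.comm_D_fix hne hv
    have e1 : ⁅v * d.dl v, x * d.dl x⁆ = ⁅v, x⁆ * ⁅v, d.dl x⁆ := by
      have hc0 : ∀ g, d.dl v * g = g * d.dl v := fun g => (d.central (show d.α (d.dl v) = d.dl v from hv) g).symm
      rw [commutatorElement_def, mul_inv_rev]
      calc v * d.dl v * (x * d.dl x) * ((d.dl v)⁻¹ * v⁻¹) * (x * d.dl x)⁻¹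
          = v * (d.dl v * (x * d.dl x)) * (d.dl v)⁻¹ * v⁻¹ * (x * d.dl x)⁻¹ := by group
        _ = ⁅v, x⁆ * (x * ⁅v, d.dl x⁆ * x⁻¹) := by rw [hc0]; simp only [commutatorElement_def]; group
        _ = ⁅v, x⁆ * ⁅v, d.dl x⁆ := by rw [d.central (hfx (d.dl x)) x, mul_inv_cancel_right]
    have h2 := hfx x
    rw [map_commutatorElement, d.α_eq v, d.α_eq x, e1] at h2
    exact commutatorElement_eq_one_iff_mul_comm.1 (mul_eq_left.1 h2)
  have hDPc : ∀ v ∈ d.D, ∀ y ∈ P, v * y = y * v := by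
    intro v hv y hy
    obtain ⟨x, u, hu, rfl⟩ := hdec y hy
    rw [← mul_assoc, hDδ v hv x, mul_assoc, hDab v hv u hu, mul_assoc]
  have hPfix : ∀ y ∈ P, ∀ y' ∈ P, d.α ⁅y, y'⁆ = ⁅y, y'⁆ := by
    intro y hy y' hy'
    rw [map_commutatorElement, d.α_eq y, d.α_eq y']
    have h1 : d.dl y * (y' * d.dl y') = y' * d.dl y' * d.dl y :=
      hDPc _ hy _ (mul_mem hy' (hDP hy'))
    have h2 : d.dl y' * y⁻¹ = y⁻¹ * d.dl y' := hDPc _ hy' _ (inv_mem hy)
    rw [commutatorElement_def, mul_inv_rev, mul_inv_rev]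
    calc y * d.dl y * (y' * d.dl y') * ((d.dl y)⁻¹ * y⁻¹) * ((d.dl y')⁻¹ * y'⁻¹)
        = y * (d.dl y * (y' * d.dl y')) * (d.dl y)⁻¹ * y⁻¹ * ((d.dl y')⁻¹ * y'⁻¹) := by group
      _ = y * y' * (d.dl y' * y⁻¹) * (d.dl y')⁻¹ * y'⁻¹ := by rw [h1]; group
      _ = ⁅y, y'⁆ := by rw [h2, commutatorElement_def]; group
  have hPab : ∀ y ∈ P, ∀ y' ∈ P, y * y' = y' * y := by
    refine c.commute_of_pairing P hPρ hPfix (fun y => c.φ (d.dl (d.dl y))) (fun a ha b hb => ?_)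
      (fun t => ?_) (fun a ha => ?_) fun a ha h b hb => ?_
    · show c.φ (d.dl (d.dl (a * b))) = _
      rw [hθmul a ha b, c.φ_mul _ _ ha hb]
    · obtain ⟨a, ha, rfl⟩ := c.φ_surj t
      obtain ⟨x, rfl⟩ := hηsurj a ha
      exact ⟨d.dl x, hδP x, rfl⟩
    · show c.φ (d.dl (d.dl (d.ρ a))) = _
      rw [d.dl_ρ, d.dl_ρ, c.φ_ρ _ ha]
    · refine hDPc a ?_ b hb
      exact (d.dl_eq_one_iff _).1 ((c.φ_eq_zero _ ha).1 h)
  have hDinv : ∀ v ∈ d.D, d.α v = v⁻¹ := by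
    intro v hv
    obtain ⟨x, hx⟩ := hηsurj _ hv
    set e := d.dl (d.dl x) with he
    have heD : e ∈ d.D := hδP x
    have hc : d.α (e⁻¹ * v) = e⁻¹ * v := by
      have h1 := d.dl_mul_D heD (e⁻¹ * v)
      rw [mul_inv_cancel_left, hx] at h1
      exact (d.dl_eq_one_iff _).1 (left_eq_mul.1 h1)
    calc d.α v = d.α e * d.α (e⁻¹ * v) := by rw [← map_mul, mul_inv_cancel_left]
      _ = e⁻¹ * (e⁻¹ * v)⁻¹ := by rw [he, d.α_dl, hc, ← he, d.inv_fix hc]
      _ = (e⁻¹ * v)⁻¹ * e⁻¹ := d.central ((fixSub d.α).inv_mem hc) _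
      _ = v⁻¹ := by group
  have hPinv : ∀ y ∈ P, d.dl y = (y * y)⁻¹ := by
    intro y hy
    obtain ⟨x, v, hv, rfl⟩ := hdec y hy
    show (d.dl x * v)⁻¹ * d.α (d.dl x * v) = _
    rw [map_mul, d.α_dl, hDinv v hv, show (d.dl x)⁻¹ * v⁻¹ = (d.dl x * v)⁻¹ by
      rw [← mul_inv_rev, hDPc v hv _ (hδP x)], ← mul_inv_rev]
  -- the pairing
  have hgfix : ∀ x y, d.α (⁅x, y⁆ * ⁅x, y⁆) = ⁅x, y⁆ * ⁅x, y⁆ := fun x y =>
    d.sq_mem_fix_of_D (hcD x y)
  let β : Q → Q → F := fun x y => c.φ (⁅x, y⁆ * ⁅x, y⁆)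
  have hβr : ∀ x, ∀ y ∈ P, ∀ y' : Q, β x (y * y') = β x y + β x y' := by
    intro x y hy y'
    have e1 : ⁅x, y * y'⁆ = ⁅x, y⁆ * ⁅x, y'⁆ := by
      rw [show ⁅x, y * y'⁆ = ⁅x, y⁆ * (y * ⁅x, y'⁆ * y⁻¹) by simp only [commutatorElement_def]; group,
        ← hDPc _ (hcD x y') y hy, mul_inv_cancel_right]
    show c.φ _ = c.φ _ + c.φ _
    rw [← c.φ_mul _ _ (hgfix x y) (hgfix x y'), e1,
      (show Commute ⁅x, y'⁆ ⁅x, y⁆ from hDab _ (hcD x y') _ (hcD x y)).mul_mul_mul_comm]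
  have hβl : ∀ x x' y, β (x * x') y = β x y + β x' y := by
    intro x x' y
    have hg : x * ⁅x', y⁆ * x⁻¹ ∈ d.D := by
      have := (d.conj_D hne (hcD x' y) x⁻¹).1
      rwa [inv_inv] at this
    have e1 : ⁅x * x', y⁆ = x * ⁅x', y⁆ * x⁻¹ * ⁅x, y⁆ := by
      simp only [commutatorElement_def]; group
    have e2 : x * ⁅x', y⁆ * x⁻¹ * (x * ⁅x', y⁆ * x⁻¹) = ⁅x', y⁆ * ⁅x', y⁆ := by
      calc x * ⁅x', y⁆ * x⁻¹ * (x * ⁅x', y⁆ * x⁻¹) = x * (⁅x', y⁆ * ⁅x', y⁆) * x⁻¹ := by group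
        _ = ⁅x', y⁆ * ⁅x', y⁆ := by rw [d.central (hgfix x' y) x, mul_inv_cancel_right]
    show c.φ _ = c.φ _ + c.φ _
    rw [add_comm, ← c.φ_mul _ _ (hgfix x' y) (hgfix x y), e1,
      (show Commute ⁅x, y⁆ (x * ⁅x', y⁆ * x⁻¹) from hDab _ (hcD x y) _ hg).mul_mul_mul_comm, e2]
  have hβ1 : ∀ x ∈ P, ∀ y ∈ P, β x y = 0 := fun x hx y hy => by
    show c.φ _ = 0
    rw [commutatorElement_eq_one_iff_mul_comm.2 (hPab x hx y hy), one_mul, c.φ_one]
  have hβD : ∀ x, ∀ v ∈ d.D, β x v = 0 := fun x v hv => by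
    show c.φ _ = 0
    have h : d.α ⁅x, v⁆ = ⁅x, v⁆ := by
      rw [← commutatorElement_inv, map_inv, d.comm_D_fix hne hv x]
    rw [d.sq_fix _ h, c.φ_one]
  let η : Q → F := fun x => c.φ (d.dl (d.dl (d.dl x)))
  let θ : Q → F := fun y => c.φ (d.dl (d.dl y))
  have hηmul : ∀ a b, η (a * b) = η a + η b := fun a b => by
    show c.φ _ = c.φ _ + c.φ _
    have hconjP : b⁻¹ * d.dl a * b ∈ P := by
      have e : b⁻¹ * d.dl a * b = d.dl a * ⁅(d.dl a)⁻¹, b⁻¹⁆ := by rw [commutatorElement_def]; group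
      rw [e]; exact mul_mem (hδP a) (hDP (hcD _ _))
    have e : d.dl (d.dl (b⁻¹ * d.dl a * b)) = d.dl (d.dl (d.dl a)) := by
      rw [show b⁻¹ * d.dl a * b = d.dl a * ⁅(d.dl a)⁻¹, b⁻¹⁆ by rw [commutatorElement_def]; group,
        hθmul _ (hδP a), (d.dl_eq_one_iff _).2 (hcD _ _), mul_one]
    rw [d.dl_mul, hθmul _ hconjP, e, c.φ_mul _ _ (hηfix a) (hηfix b)]
  have hdepl : ∀ x x', η x = η x' → ∀ y ∈ P, β x y = β x' y := by
    intro x x' h y hy
    have hk : x⁻¹ * x' ∈ P := by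
      apply hηP
      have h1 := hηmul x (x⁻¹ * x')
      rw [mul_inv_cancel_left, ← h] at h1
      exact left_eq_add.1 h1
    have h2 := hβl x (x⁻¹ * x') y
    rw [mul_inv_cancel_left, hβ1 _ hk y hy, add_zero] at h2
    exact h2.symm
  have hdepr : ∀ x, ∀ y ∈ P, ∀ y' ∈ P, θ y = θ y' → β x y = β x y' := by
    intro x y hy y' hy' h
    have hk : y⁻¹ * y' ∈ d.D := by
      have h1 : θ y' = θ y + θ (y⁻¹ * y') := by
        show c.φ _ = c.φ _ + c.φ _
        rw [← c.φ_mul _ _ hy (mul_mem (inv_mem hy) hy'), ← hθmul y hy, mul_inv_cancel_left]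
      rw [← h] at h1
      exact (d.dl_eq_one_iff _).1
        ((c.φ_eq_zero _ (mul_mem (inv_mem hy) hy')).1 (left_eq_add.1 h1))
    have h2 := hβr x y hy (y⁻¹ * y')
    rw [mul_inv_cancel_left, hβD x _ hk, add_zero] at h2
    exact h2.symm
  have hsx : ∀ t, ∃ x, η x = t := fun t => by
    obtain ⟨a, ha, rfl⟩ := c.φ_surj t
    obtain ⟨x, rfl⟩ := hηsurj a ha
    exact ⟨x, rfl⟩
  choose sx hsx using hsx
  let sy : F → Q := fun t => d.dl (sx t)
  have hsy : ∀ t, θ (sy t) = t := hsx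
  let B : F → F → F := fun a b => β (sx a) (sy b)
  have hθadd : ∀ a b, θ (sy a * sy b) = a + b := fun a b => by
    show c.φ _ = _
    rw [hθmul _ (hδP _), c.φ_mul _ _ (hδP _) (hδP _)]
    exact congrArg₂ (· + ·) (hsy a) (hsy b)
  have hl : ∀ a a' b, B (a + a') b = B a b + B a' b := fun a a' b => by
    show β _ _ = β _ _ + β _ _
    rw [← hβl]
    exact hdepl _ _ (by rw [hsx, hηmul, hsx, hsx]) _ (hδP _)
  have hr : ∀ a b b', B a (b + b') = B a b + B a b' := fun a b b' => by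
    show β _ _ = β _ _ + β _ _
    rw [← hβr _ _ (hδP _)]
    exact hdepr _ _ (hδP _) _ (mul_mem (hδP _) (hδP _)) (by rw [hsy, hθadd])
  have hw : ∀ a b, B (c.ζ * a) (c.ζ * b) = c.ζ * B a b := fun a b => by
    have h1 : β (d.ρ (sx a)) (d.ρ (sy b)) = c.ζ * β (sx a) (sy b) := by
      show c.φ _ = c.ζ * c.φ _
      rw [← c.φ_ρ _ (hgfix _ _), map_mul, map_commutatorElement]
    show β _ _ = c.ζ * β _ _
    rw [← h1, hdepl (sx (c.ζ * a)) (d.ρ (sx a)) (by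
        rw [hsx]
        show _ = c.φ _
        rw [d.dl_ρ, d.dl_ρ, d.dl_ρ, c.φ_ρ _ (hηfix _)]
        exact congrArg _ (hsx a).symm) _ (hδP _)]
    refine hdepr _ _ (hδP _) _ (hPρ _ (hδP _)) ?_
    rw [hsy]
    show _ = c.φ _
    rw [d.dl_ρ, d.dl_ρ, c.φ_ρ _ (hδP _)]
    exact congrArg _ (hsy b).symm
  have hidem : ∀ a b, B a (B a b) = B a b := by
    intro a b
    set x := sx a
    set y := sy b
    have hyP : y ∈ P := hδP _
    set g := ⁅x, y⁆ with hg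
    have hgD : g ∈ d.D := hcD x y
    have hxg : x * g * x⁻¹ = g⁻¹ := by
      have h1 : (x * x) * y * (x * x)⁻¹ = y := by
        rw [hDPc _ (hsqD x) y hyP, mul_inv_cancel_right]
      calc x * g * x⁻¹ = (x * x) * y * (x * x)⁻¹ * (x * y⁻¹ * x⁻¹) := by
            rw [hg, commutatorElement_def]; group
        _ = g⁻¹ := by rw [h1, hg, commutatorElement_def]; group
    -- a square root of `g`
    obtain ⟨x1, hx1⟩ := hηsurj _ hgD
    set y1 := d.dl x1
    have hy1 : y1 ∈ P := hδP _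
    have hcf : d.α ((d.dl y1)⁻¹ * g) = (d.dl y1)⁻¹ * g := by
      have h1 := d.dl_mul_D (show d.dl y1 ∈ d.D from hy1) ((d.dl y1)⁻¹ * g)
      rw [mul_inv_cancel_left, hx1] at h1
      exact (d.dl_eq_one_iff _).1 (left_eq_mul.1 h1)
    obtain ⟨v, hv, hve⟩ := d.exists_dl_D hne hcf
    have hY : d.dl (y1 * v) = g := by
      rw [d.dl_mul, hve, mul_assoc v⁻¹, ← hDab v hv _ (show d.dl y1 ∈ d.D from hy1), inv_mul_cancel_left,
        mul_inv_cancel_left]
    set Y := (y1 * v)⁻¹ with hYdef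
    have hYP : Y ∈ P := inv_mem (mul_mem hy1 (hDP hv))
    have hgY : g = Y * Y := by
      rw [← hY, hPinv _ (mul_mem hy1 (hDP hv)), mul_inv_rev]
    have hβY : β x Y = β x y := by
      have h1 : ⁅x, Y⁆ * ⁅x, Y⁆ = ⁅x, g⁆ := by
        rw [hgY, show ⁅x, Y * Y⁆ = ⁅x, Y⁆ * (Y * ⁅x, Y⁆ * Y⁻¹) by simp only [commutatorElement_def]; group,
          ← hDPc _ (hcD x Y) Y hYP, mul_inv_cancel_right]
      show c.φ _ = c.φ _
      rw [h1, commutatorElement_def, hxg, ← mul_inv_rev, c.φ_inv _ (hgfix x y)]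
    have hθY : θ Y = β x y := by
      show c.φ _ = c.φ _
      rw [hPinv Y hYP, hPinv _ (inv_mem (mul_mem hYP hYP)), ← hgY, ← mul_inv_rev, inv_inv]
    show β x (sy (β x y)) = β x y
    rw [hdepr x _ (hδP _) Y hYP (by rw [hsy, hθY]), hβY]
  have hB := sq_eq_of_weight c.gen B hl hr hw
  have hK : B 1 1 = 0 := by
    by_contra hK
    have hK2 : B 1 1 ^ 2 ≠ 0 := pow_ne_zero 2 hK
    have hid : ∀ b, B 1 b = b := fun b => by
      have h1 := hB 1 (B 1 b)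
      rw [hidem, hB, one_mul, one_mul] at h1
      exact (mul_right_cancel₀ hK2 h1).symm
    obtain ⟨b, hb0, hb1⟩ : ∃ b : F, b ≠ 0 ∧ b ≠ 1 := by
      by_contra h
      push Not at h
      have h2 : Fintype.card F ≤ 2 := by
        refine (Fintype.card_le_of_injective (fun b : F => decide (b = 1)) ?_).trans (by simp)
        intro u v huv
        by_cases hu : u = 1
        · subst hu; simp at huv; exact huv.symm
        · have hv : v ≠ 1 := fun e => hu (by subst e; simpa using huv)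
          rw [not_imp_comm.1 (h u) hu, not_imp_comm.1 (h v) hv]
      rw [c.card_F] at h2
      have := Nat.pow_le_pow_right (show 0 < 2 by norm_num) d.two_le
      omega
    have h1 := hB 1 b
    rw [hid, hid, one_pow, mul_one, one_mul, pow_two] at h1
    exact hb1 (mul_left_cancel₀ hb0 (h1.trans (mul_one b).symm))
  apply hx0
  refine hcen (d.dl x0) fun x => ?_
  have hz : β x (d.dl x0) = 0 := by
    rw [hdepl x (sx (η x)) (hsx _).symm _ (hδP _),
      hdepr _ _ (hδP _) _ (hδP _) (show θ (d.dl x0) = θ (sy (η x0)) from (hsy _).symm)]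
    exact eq_zero_of_pow_eq_zero (n := 2) ((hB _ _).trans (by rw [hK]; simp))
  have hg1 := (c.φ_eq_zero _ (hgfix _ _)).1 hz
  rw [← d.dl_eq_one_iff, hPinv _ (hDP (hcD _ _)), hg1, inv_one]

/-- The shape of a non-abelian group. -/
theorem shape : ∀ (m : ℕ) {Q : Type*} [Group Q] [Finite Q] {n : ℕ} (d : Datum Q n),
    Nat.card Q = m → (¬ ∀ x y : Q, x * y = y * x) →
    Nat.card Q = (2 ^ n) ^ 3 ∧ (∀ x, d.α (x * x) = x * x) ∧ Subgroup.center Q = fixSub d.α := by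
  intro m
  induction m using Nat.strong_induction_on with
  | _ m ih =>
  intro Q _ _ n d hm hna
  obtain ⟨F, _, _, ⟨c⟩⟩ := exists_coord d
  have hne : ∃ x, d.α x ≠ x := by
    by_contra h
    push Not at h
    exact hna fun x y => d.central (h y) x
  obtain ⟨hN, d', hα', hρ'⟩ := d.exists_quot hne
  by_cases hab : ∀ u v : Q ⧸ fixSub d.α, u * v = v * u
  · refine abelian_quot d c hna fun x y => (QuotientGroup.eq_one_iff (N := fixSub d.α) ⁅x, y⁆).1 ?_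
    rw [commutatorElement_def, QuotientGroup.mk_mul, QuotientGroup.mk_mul, QuotientGroup.mk_mul,
      QuotientGroup.mk_inv, QuotientGroup.mk_inv, hab x y, mul_inv_cancel_right, mul_inv_cancel]
  exfalso
  have hcard := Subgroup.card_eq_card_quotient_mul_card_subgroup (fixSub d.α)
  rw [d.card_fix] at hcard
  have hlt : Nat.card (Q ⧸ fixSub d.α) < m := by
    rw [← hm, hcard]
    exact lt_mul_of_one_lt_right Nat.card_pos
      (Nat.one_lt_two_pow (by have := d.two_le; omega))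
  obtain ⟨h3, hsq, hcen⟩ := ih _ hlt d' rfl hab
  have hmemD : ∀ x : Q, x ∈ d.D ↔ d'.α (x : Q ⧸ fixSub d.α) = x := fun x => by
    rw [hα', eq_comm, QuotientGroup.eq]
    rfl
  refine nonabelian_quot_absurd d c hne (by rw [hcard, h3]; ring)
    (fun x => (hmemD _).2 (by rw [QuotientGroup.mk_mul]; exact hsq _)) (fun x y => (hmemD _).2 ?_)
    fun y hy => ?_
  · have e : ∀ u v : Q ⧸ fixSub d.α, ⁅u, v⁆ = u * u * (u⁻¹ * v * (u⁻¹ * v)) * (v⁻¹ * v⁻¹) :=
      fun u v => by rw [commutatorElement_def]; group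
    rw [show ((⁅x, y⁆ : Q) : Q ⧸ fixSub d.α) = ⁅(x : Q ⧸ fixSub d.α), (y : Q ⧸ fixSub d.α)⁆ from
      map_commutatorElement (QuotientGroup.mk' _) x y, e]
    rw [map_mul, map_mul, hsq, hsq, hsq]
  · rw [hmemD]
    have hmem : (y : Q ⧸ fixSub d.α) ∈ Subgroup.center (Q ⧸ fixSub d.α) := by
      rw [Subgroup.mem_center_iff]
      intro u
      obtain ⟨x, rfl⟩ := QuotientGroup.mk_surjective u
      rw [← commutatorElement_eq_one_iff_mul_comm]
      exact (map_commutatorElement (QuotientGroup.mk' (fixSub d.α)) x y).symm.trans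
        ((QuotientGroup.eq_one_iff _).2 (hy x))
    rw [hcen] at hmem
    exact hmem

end Cfsg.Agent.Lib.H59.TwoAut
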