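import Mathlib
import Cfsg.Agent.Lib.H59.TwoAut.Induct

/-!
The squaring map of a non-abelian group with such automorphisms is, in suitable coordinates, the
binary form `L a ^ 2 + a b + b ^ 2`.
-/

set_option autoImplicit false

namespace Cfsg.Agent.Lib.H59.TwoAut

open scoped commutatorElement

variable {Q : Type*} [Group Q] [Finite Q] {n : ℕ}

theorem exists_quad (d : Datum Q n) (hna : ¬ ∀ x y : Q, x * y = y * x) :
    ∃ (F : Type) (_ : Field F) (_ : Fintype F) (_ : CharP F 2) (L : F)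
      (ψ : Q →* Multiplicative (F × F)) (χ : Q → F),
      Fintype.card F = 2 ^ n ∧ Nat.card Q = (2 ^ n) ^ 3 ∧ Function.Surjective ψ ∧
      (∀ a ∈ ψ.ker, ∀ g, g * a = a * g) ∧
      (∀ a ∈ ψ.ker, ∀ b ∈ ψ.ker, χ (a * b) = χ a + χ b) ∧
      (∀ a ∈ ψ.ker, χ a = 0 → a = 1) ∧
      (∀ x, x * x ∈ ψ.ker) ∧
      ∀ x, χ (x * x) = L * (ψ x).toAdd.1 ^ 2 + (ψ x).toAdd.1 * (ψ x).toAdd.2 + (ψ x).toAdd.2 ^ 2 := by
  classical
  obtain ⟨hcard, hsq, hZ⟩ := shape _ d rfl hna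
  obtain ⟨F, hF1, hF2, ⟨c⟩⟩ := exists_coord d
  have := c.charTwo
  have hne : ∃ x, d.α x ≠ x := by
    by_contra h
    push Not at h
    exact hna fun x y => d.central (h y) x
  have hN := d.normal_fix
  have hdD : ∀ x, d.dl x ∈ d.D := fun x => by
    show d.α (d.dl (d.dl x)) = d.dl (d.dl x)
    rw [d.dl_dl, map_inv, hsq]
  let η : Q → F := fun x => c.φ (d.dl (d.dl x))
  have hη : ∀ x y, η (x * y) = η x + η y := fun x y => by
    show c.φ _ = c.φ _ + c.φ _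
    rw [d.dl_mul, d.dl_mul_D (d.conj_D hne (hdD x) y).1, (d.conj_D hne (hdD x) y).2,
      c.φ_mul _ _ (hdD x) (hdD y)]
  have hη0 : ∀ x, η x = 0 → x ∈ d.D := fun x h =>
    (d.dl_eq_one_iff _).1 ((c.φ_eq_zero _ (hdD x)).1 h)
  obtain ⟨x0, hx0⟩ : ∃ x, x ∉ d.D := by
    by_contra h
    push Not at h
    exact hna fun x y => c.commute_D hne x (h x) y (h y)
  have hηs : ∀ t, ∃ x, η x = t := fun t => by
    obtain ⟨a, ha, rfl⟩ := c.φ_surj t
    obtain ⟨x, hx⟩ : a ∈ Set.range (fun x => d.dl (d.dl x)) := by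
      refine d.fix_subset (S := Set.range (fun x => d.dl (d.dl x)))
        ⟨1, by simp only [d.dl_one]⟩ ?_ ⟨x0, rfl⟩ (hdD x0)
        (fun h => hx0 ((d.dl_eq_one_iff _).1 h)) ha
      rintro _ ⟨x, rfl⟩
      exact ⟨d.ρ x, by simp only [d.dl_ρ]⟩
    exact ⟨x, congrArg c.φ hx⟩
  have hηρ : ∀ x, η (d.ρ x) = c.ζ * η x := fun x => by
    show c.φ _ = _
    rw [d.dl_ρ, d.dl_ρ, c.φ_ρ _ (hdD x)]
  -- `D / C` inside `Q / C`
  have hinv : ∀ v : Q ⧸ fixSub d.α, v⁻¹ = v := fun v => by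
    induction v using QuotientGroup.induction_on with
    | _ x => exact inv_eq_of_mul_eq_one_right ((QuotientGroup.eq_one_iff (x * x)).2 (hsq x))
  letI : CommGroup (Q ⧸ fixSub d.α) :=
    { (inferInstance : Group (Q ⧸ fixSub d.α)) with
      mul_comm := fun a b => by
        calc a * b = (a * b)⁻¹ := (hinv _).symm
          _ = b * a := by rw [mul_inv_rev, hinv, hinv] }
  letI : Module (ZMod 2) (Additive (Q ⧸ fixSub d.α)) := AddCommGroup.zmodModule fun v => by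
    rw [two_nsmul]
    exact Additive.toMul.injective (by rw [toMul_add, toMul_zero]; exact eq_inv_iff_mul_eq_one.1 (hinv _).symm)
  letI : Algebra (ZMod 2) F := ZMod.algebra F 2
  have hDs : ∀ t : F, ∃ v, v ∈ d.D ∧ c.φ (d.dl v) = t := fun t => by
    obtain ⟨a, ha, rfl⟩ := c.φ_surj t
    obtain ⟨v, hv, rfl⟩ := d.exists_dl_D hne ha
    exact ⟨v, hv, rfl⟩
  choose sv hsvD hsv using hDs
  have hsvu : ∀ v ∈ d.D, ∀ w ∈ d.D, c.φ (d.dl v) = c.φ (d.dl w) →
      (v : Q ⧸ fixSub d.α) = w := fun v hv w hw h => by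
    refine QuotientGroup.eq.2 ((d.dl_eq_one_iff _).1 ?_)
    have he := c.φ_injOn _ _ hv hw h
    have h1 := d.dl_mul_D hv (v⁻¹ * w)
    rw [mul_inv_cancel_left, ← he] at h1
    exact left_eq_mul.1 h1
  let ι : F →ₗ[ZMod 2] Additive (Q ⧸ fixSub d.α) :=
    (AddMonoidHom.mk' (fun t => Additive.ofMul ((sv t : Q) : Q ⧸ fixSub d.α)) fun s t => by
      rw [← ofMul_mul, ← QuotientGroup.mk_mul]
      refine congrArg Additive.ofMul (hsvu _ (hsvD _) _ (mul_mem (hsvD s) (hsvD t)) ?_)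
      rw [hsv, d.dl_mul_D (hsvD s), c.φ_mul _ _ (hsvD s) (hsvD t), hsv, hsv]).toZModLinearMap 2
  have hι : Function.Injective ι := by
    intro s t h
    have h1 : ((sv s : Q) : Q ⧸ fixSub d.α) = (sv t : Q) := Additive.ofMul.injective h
    have h2 : d.dl ((sv s)⁻¹ * sv t) = 1 := (d.dl_eq_one_iff _).2 (QuotientGroup.eq.1 h1)
    have h3 := d.dl_mul_D (hsvD s) ((sv s)⁻¹ * sv t)
    rw [mul_inv_cancel_left, h2, mul_one] at h3
    rw [← hsv s, ← hsv t, h3]
  obtain ⟨r, hr⟩ := LinearMap.exists_leftInverse_of_injective ι (LinearMap.ker_eq_bot.2 hι)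
  let π0 : Q → F := fun x => r (Additive.ofMul (x : Q ⧸ fixSub d.α))
  have hπ0 : ∀ x y, π0 (x * y) = π0 x + π0 y := fun x y => by
    show r _ = r _ + r _
    rw [← map_add, ← ofMul_mul, ← QuotientGroup.mk_mul]
  have hπ0D : ∀ v ∈ d.D, π0 v = c.φ (d.dl v) := fun v hv => by
    show r _ = _
    rw [hsvu v hv (sv (c.φ (d.dl v))) (hsvD _) (hsv _).symm]
    exact LinearMap.congr_fun hr _
  -- averaging
  set N := 2 ^ n - 1 with hN'
  have hN0 : N ≠ 0 := by
    have := Nat.pow_le_pow_right (show 0 < 2 by norm_num) d.two_le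
    omega
  have hζ0 : c.ζ ≠ 0 := fun h => by
    have h1 := c.ζ_period
    rw [h, zero_pow hN0] at h1
    exact zero_ne_one h1
  let π : Q → F := fun x => ∑ k ∈ Finset.range N, (c.ζ⁻¹) ^ k * π0 ((d.ρ ^ k) x)
  have hπ : ∀ x y, π (x * y) = π x + π y := fun x y => by
    show ∑ k ∈ Finset.range N, _ = _
    simp only [map_mul, hπ0, mul_add, Finset.sum_add_distrib]
    rfl
  have hπρ : ∀ x, π (d.ρ x) = c.ζ * π x := fun x => by
    let g : ℕ → F := fun k => (c.ζ⁻¹) ^ k * π0 ((d.ρ ^ k) x)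
    have h1 : π (d.ρ x) = c.ζ * ∑ k ∈ Finset.range N, g (k + 1) := by
      show ∑ k ∈ Finset.range N, _ = _
      rw [Finset.mul_sum]
      refine Finset.sum_congr rfl fun k _ => ?_
      show (c.ζ⁻¹) ^ k * π0 ((d.ρ ^ k) (d.ρ x)) = c.ζ * ((c.ζ⁻¹) ^ (k + 1) * π0 ((d.ρ ^ (k + 1)) x))
      rw [pow_succ' c.ζ⁻¹, pow_succ d.ρ, MulAut.mul_apply, ← mul_assoc, ← mul_assoc,
        mul_inv_cancel₀ hζ0, one_mul]
    rw [h1]
    refine congrArg (c.ζ * ·) ?_
    show ∑ k ∈ Finset.range N, g (k + 1) = ∑ k ∈ Finset.range N, g k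
    have hg : g N = g 0 := by
      show (c.ζ⁻¹) ^ N * π0 ((d.ρ ^ N) x) = (c.ζ⁻¹) ^ 0 * π0 ((d.ρ ^ 0) x)
      rw [d.period, inv_pow, c.ζ_period, inv_one, pow_zero, pow_zero]
    obtain ⟨m, hm⟩ : ∃ m, N = m + 1 := ⟨N - 1, by omega⟩
    rw [hm] at hg ⊢
    conv_lhs => rw [Finset.sum_range_succ, hg]
    conv_rhs => rw [Finset.sum_range_succ']
  have hπD : ∀ v ∈ d.D, π v = c.φ (d.dl v) := fun v hv => by
    have key : ∀ k, (d.ρ ^ k) v ∈ d.D ∧ c.φ (d.dl ((d.ρ ^ k) v)) = c.ζ ^ k * c.φ (d.dl v) := by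
      intro k
      induction k with
      | zero => exact ⟨by simpa using hv, by simp⟩
      | succ k ih =>
        obtain ⟨h1, h2⟩ := ih
        rw [pow_succ', MulAut.mul_apply]
        refine ⟨?_, ?_⟩
        · show d.α (d.dl (d.ρ _)) = d.dl (d.ρ _)
          rw [d.dl_ρ]; exact d.ρ_fix h1
        · rw [d.dl_ρ, c.φ_ρ _ h1, h2, pow_succ', mul_assoc]
    show ∑ k ∈ Finset.range N, _ = _
    rw [Finset.sum_congr rfl fun k _ => show (c.ζ⁻¹) ^ k * π0 ((d.ρ ^ k) v) = c.φ (d.dl v) by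
      rw [hπ0D _ (key k).1, (key k).2, ← mul_assoc, ← mul_pow, inv_mul_cancel₀ hζ0, one_pow, one_mul],
      Finset.sum_const, Finset.card_range, nsmul_eq_mul]
    have hodd : Odd N := Nat.Even.sub_odd Nat.one_le_two_pow
      (Nat.even_pow.2 ⟨even_two, by have := d.two_le; omega⟩) odd_one
    rw [(ZMod.natCast_eq_one_iff_odd).2 hodd |> fun h => (show (N : F) = 1 by
      rw [← map_natCast (algebraMap (ZMod 2) F), h, map_one]), one_mul]
  -- coordinates
  let ψ : Q →* Multiplicative (F × F) :=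
    MonoidHom.mk' (fun x => Multiplicative.ofAdd (η x, π x)) fun x y => by
      rw [← ofAdd_add, hη, hπ]; rfl
  have hψk : ∀ x, ψ x = 1 ↔ d.α x = x := fun x => by
    constructor
    · intro h
      have h1 : η x = 0 := congrArg (fun p => (Multiplicative.toAdd p).1) h
      have h2 : π x = 0 := congrArg (fun p => (Multiplicative.toAdd p).2) h
      have hx := hη0 x h1
      rw [hπD x hx, c.φ_eq_zero _ hx] at h2
      exact (d.dl_eq_one_iff x).1 h2
    · intro h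
      have h1 : η x = 0 := by
        show c.φ _ = 0
        rw [(d.dl_eq_one_iff x).2 h, d.dl_one, c.φ_one]
      have h2 : π x = 0 := by rw [hπD x (d.fix_le_D h), (d.dl_eq_one_iff x).2 h, c.φ_one]
      show Multiplicative.ofAdd (η x, π x) = 1
      rw [h1, h2]
      rfl
  have hker : ψ.ker = fixSub d.α := by
    ext x; exact hψk x
  have hψs : Function.Surjective ψ := by
    rw [← MonoidHom.range_eq_top]
    refine Subgroup.eq_top_of_card_eq _ ?_
    have h := ψ.ker.card_mul_index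
    rw [Subgroup.index_ker, hker, d.card_fix, hcard] at h
    rw [Nat.card_congr Multiplicative.toAdd, Nat.card_prod, Nat.card_eq_fintype_card (α := F),
      c.card_F]
    refine Nat.eq_of_mul_eq_mul_left (show 0 < 2 ^ n by positivity) (h.trans ?_)
    ring
  have hC : ∀ x y : Q, d.α ⁅x, y⁆ = ⁅x, y⁆ := by
    intro x y
    have h : ψ ⁅x, y⁆ = 1 := by
      rw [map_commutatorElement]
      exact commutatorElement_eq_one_iff_mul_comm.2 (mul_comm _ _)
    exact (hψk _).1 h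
  let S : Q → F := fun x => c.φ (x * x)
  have hS : ∀ x y, S (x * y) = S x + S y + c.φ ⁅x, y⁆ := fun x y => by
    have hxi : c.φ ⁅x⁻¹, y⁆ = c.φ ⁅x, y⁆ := by
      have h := c.φ_comm_mul (hC x y) (hC x⁻¹ y)
      rw [mul_inv_cancel, commutatorElement_one_left, c.φ_one] at h
      exact (CharTwo.add_eq_zero.1 h.symm).symm
    have e : x * y * (x * y) = x * x * ⁅x⁻¹, y⁆ * (y * y) := by
      rw [commutatorElement_def]; group
    show c.φ _ = c.φ _ + c.φ _ + _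
    rw [e, c.φ_mul _ _ ((fixSub d.α).mul_mem (hsq x) (hC _ _)) (hsq y),
      c.φ_mul _ _ (hsq x) (hC _ _), hxi]
    ring
  have hSfix : ∀ a, d.α a = a → S a = 0 := fun a ha => by
    show c.φ _ = 0
    rw [d.sq_fix a ha, c.φ_one]
  have hcong : ∀ x x', ψ x = ψ x' → ∀ y, c.φ ⁅x, y⁆ = c.φ ⁅x', y⁆ := by
    intro x x' h y
    have hk : d.α (x⁻¹ * x') = x⁻¹ * x' := (hψk _).1 (by rw [map_mul, map_inv, h, inv_mul_cancel])
    have h2 := c.φ_comm_mul (hC x y) (hC (x⁻¹ * x') y)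
    rw [mul_inv_cancel_left, commutatorElement_eq_one_iff_mul_comm.2 (d.central hk y).symm, c.φ_one,
      add_zero] at h2
    exact h2.symm
  have hcong2 : ∀ x y y', ψ y = ψ y' → c.φ ⁅x, y⁆ = c.φ ⁅x, y'⁆ := fun x y y' h => by
    rw [← c.φ_comm_swap (hC x y), ← c.φ_comm_swap (hC x y'), hcong y y' h x]
  have hScong : ∀ x x', ψ x = ψ x' → S x = S x' := by
    intro x x' h
    have hk : d.α (x⁻¹ * x') = x⁻¹ * x' := (hψk _).1 (by rw [map_mul, map_inv, h, inv_mul_cancel])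
    have h2 := hS x (x⁻¹ * x')
    rw [mul_inv_cancel_left, hSfix _ hk, commutatorElement_eq_one_iff_mul_comm.2 (d.central hk x),
      c.φ_one, add_zero, add_zero] at h2
    exact h2.symm
  choose U hU using fun a : F => hψs (Multiplicative.ofAdd (a, 0))
  choose V hV using fun b : F => hψs (Multiplicative.ofAdd (0, b))
  have hUadd : ∀ a a', ψ (U (a + a')) = ψ (U a * U a') := fun a a' => by
    rw [map_mul, hU, hU, hU, ← ofAdd_add, Prod.mk_add_mk, add_zero]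
  have hVadd : ∀ b b', ψ (V (b + b')) = ψ (V b * V b') := fun b b' => by
    rw [map_mul, hV, hV, hV, ← ofAdd_add, Prod.mk_add_mk, add_zero]
  have hψρ : ∀ x, ψ (d.ρ x) = Multiplicative.ofAdd (c.ζ * η x, c.ζ * π x) := fun x => by
    show Multiplicative.ofAdd (η (d.ρ x), π (d.ρ x)) = _
    rw [hηρ, hπρ]
  have hηU : ∀ a, η (U a) = a ∧ π (U a) = 0 := fun a =>
    ⟨congrArg (fun p => (Multiplicative.toAdd p).1) (hU a), congrArg (fun p => (Multiplicative.toAdd p).2) (hU a)⟩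
  have hηV : ∀ b, η (V b) = 0 ∧ π (V b) = b := fun b =>
    ⟨congrArg (fun p => (Multiplicative.toAdd p).1) (hV b), congrArg (fun p => (Multiplicative.toAdd p).2) (hV b)⟩
  have hUρ : ∀ a, ψ (d.ρ (U a)) = ψ (U (c.ζ * a)) := fun a => by
    rw [hψρ, hU, (hηU a).1, (hηU a).2, mul_zero]
  have hVρ : ∀ b, ψ (d.ρ (V b)) = ψ (V (c.ζ * b)) := fun b => by
    rw [hψρ, hV, (hηV b).1, (hηV b).2, mul_zero]
  let BU : F → F → F := fun a a' => c.φ ⁅U a, U a'⁆
  let BM : F → F → F := fun a b => c.φ ⁅U a, V b⁆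
  have hBU : ∀ a a', BU a a' = 0 := by
    refine eq_zero_of_alternating c.gen BU (fun a a' b => ?_) (fun a b b' => ?_) (fun a b => ?_) ?_
    · show c.φ _ = c.φ _ + c.φ _
      rw [hcong _ _ (hUadd a a'), c.φ_comm_mul (hC _ _) (hC _ _)]
    · show c.φ _ = c.φ _ + c.φ _
      rw [hcong2 _ _ _ (hUadd b b'), ← c.φ_comm_swap (hC _ (U b * U b')),
        c.φ_comm_mul (hC _ _) (hC _ _), c.φ_comm_swap (hC _ (U b)), c.φ_comm_swap (hC _ (U b'))]
    · show c.φ _ = c.ζ * c.φ _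
      rw [← c.φ_ρ _ (hC _ _), map_commutatorElement, hcong _ _ (hUρ a).symm,
        hcong2 _ _ _ (hUρ b).symm]
    · show c.φ _ = 0
      rw [commutatorElement_self, c.φ_one]
  have hBM : ∀ a b, BM a b ^ 2 = a * b * BM 1 1 ^ 2 := by
    refine sq_eq_of_weight c.gen BM (fun a a' b => ?_) (fun a b b' => ?_) (fun a b => ?_)
    · show c.φ _ = c.φ _ + c.φ _
      rw [hcong _ _ (hUadd a a'), c.φ_comm_mul (hC _ _) (hC _ _)]
    · show c.φ _ = c.φ _ + c.φ _
      rw [hcong2 _ _ _ (hVadd b b'), ← c.φ_comm_swap (hC _ (V b * V b')),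
        c.φ_comm_mul (hC _ _) (hC _ _), c.φ_comm_swap (hC _ (V b)), c.φ_comm_swap (hC _ (V b'))]
    · show c.φ _ = c.ζ * c.φ _
      rw [← c.φ_ρ _ (hC _ _), map_commutatorElement, hcong _ _ (hUρ a).symm,
        hcong2 _ _ _ (hVρ b).symm]
  have hSU : ∀ a, S (U a) = a * S (U 1) := by
    refine eq_mul_of_map_zeta c.gen (fun a => S (U a)) (fun a a' => ?_) fun a => ?_
    · rw [hScong _ _ (hUadd a a'), hS]
      show _ + BU a a' = _
      rw [hBU, add_zero]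
    · rw [← hScong _ _ (hUρ a)]
      show c.φ _ = c.ζ * c.φ _
      rw [← map_mul, c.φ_ρ _ (hsq _)]
  have hSV : ∀ b, S (V b) = b := fun b => by
    have hv := hη0 _ (hηV b).1
    obtain ⟨x, hx⟩ := hηs (c.φ (d.dl (V b)))
    have he : d.dl (d.dl x) = d.dl (V b) := c.φ_injOn _ _ (hdD x) hv hx
    have hk : d.α ((d.dl x)⁻¹ * V b) = (d.dl x)⁻¹ * V b := by
      have h1 := d.dl_mul_D (hdD x) ((d.dl x)⁻¹ * V b)
      rw [mul_inv_cancel_left, he] at h1
      exact (d.dl_eq_one_iff _).1 (left_eq_mul.1 h1)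
    rw [← hScong (d.dl x) (V b) (by
      have := (hψk _).2 hk
      rw [map_mul, map_inv, inv_mul_eq_one] at this
      exact this)]
    show c.φ _ = b
    have e : c.φ (d.dl x * d.dl x) = c.φ (d.dl (d.dl x)) := by
      rw [d.dl_dl, c.φ_inv _ (hsq _)]
    rw [e, he, ← hπD _ hv, (hηV b).2]
  have hform : ∀ x, S x = η x * S (U 1) + π x + BM (η x) (π x) := fun x => by
    have h : ψ x = ψ (U (η x) * V (π x)) := by
      rw [map_mul, hU, hV, ← ofAdd_add, Prod.mk_add_mk, add_zero, zero_add]; rfl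
    rw [hScong _ _ h, hS, hSU, hSV]
  have hψα : ∀ x, η (d.α x) = η x ∧ π (d.α x) = π x + η x := fun x => by
    constructor
    · show c.φ _ = c.φ _
      have e : d.dl ((d.dl x)⁻¹) = (d.dl (d.dl x))⁻¹ := by
        rw [← d.α_dl x, d.dl_α]
      rw [d.dl_α, e, c.φ_inv _ (hdD x)]
    · rw [d.α_eq, hπ, hπD _ (hdD x)]
  have hK : BM 1 1 ^ 2 = 1 := by
    have h1 := hform (d.α (U 1))
    have h2 : S (d.α (U 1)) = S (U 1) := by
      show c.φ _ = c.φ _
      rw [← map_mul, hsq]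
    rw [h2, (hψα _).1, (hψα _).2, (hηU 1).1, (hηU 1).2, zero_add, one_mul] at h1
    rw [add_assoc, left_eq_add] at h1
    rw [← CharTwo.add_eq_zero.1 h1, one_pow]
  refine ⟨F, hF1, hF2, inferInstance, S (U 1) ^ 2, ψ, fun x => c.φ x ^ 2, c.card_F, hcard, hψs,
    fun a ha g => ?_, fun a ha b hb => ?_, fun a ha h => ?_, fun x => (hψk _).2 (hsq x), fun x => ?_⟩
  · exact d.central ((hψk a).1 ha) g
  · show c.φ (a * b) ^ 2 = c.φ a ^ 2 + c.φ b ^ 2
    rw [c.φ_mul _ _ ((hψk a).1 ha) ((hψk b).1 hb), CharTwo.add_sq]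
  · exact (c.φ_eq_zero _ ((hψk a).1 ha)).1 (eq_zero_of_pow_eq_zero h)
  · show S x ^ 2 = S (U 1) ^ 2 * η x ^ 2 + η x * π x + π x ^ 2
    rw [hform, CharTwo.add_sq, CharTwo.add_sq, hBM, hK]
    ring

end Cfsg.Agent.Lib.H59.TwoAut
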