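import Mathlib

/-!
Two central extensions of an elementary abelian group by elementary abelian groups are isomorphic as
soon as their squaring maps agree.
-/

set_option autoImplicit false

namespace Cfsg.Agent.Lib.H59.TwoAut

variable {G H M : Type*} [Group G] [Group H] [Group M] [Finite G] [Finite H]

/-- Pairs lying over the same element of the common quotient. -/
abbrev fibre (p : G →* M) (p' : H →* M) : Subgroup (G × H) :=
  MonoidHom.eqLocus (p.comp (MonoidHom.fst G H)) (p'.comp (MonoidHom.snd G H))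

theorem nonempty_mulEquiv_of_sq (p : G →* M) (p' : H →* M) (hp : Function.Surjective p)
    (hp' : Function.Surjective p') (hc : ∀ a ∈ p.ker, ∀ g, g * a = a * g)
    (hc' : ∀ a ∈ p'.ker, ∀ h, h * a = a * h) (hexp : ∀ a ∈ p'.ker, a * a = 1)
    (χ : ↥p.ker ≃* ↥p'.ker)
    (hsq : ∀ g h, p g = p' h → ∃ hg : g * g ∈ p.ker, (χ ⟨g * g, hg⟩ : H) = h * h) :
    Nonempty (G ≃* H) := by
  classical
  set K := fibre p p' with hK
  have hmemK : ∀ x : G × H, x ∈ K ↔ p x.1 = p' x.2 := fun x => Iff.rfl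
  -- the graph of `χ` on the kernels
  let N : Subgroup ↥K :=
    { carrier := {x | ∃ hx : x.1.1 ∈ p.ker, (χ ⟨x.1.1, hx⟩ : H) = x.1.2}
      one_mem' := ⟨one_mem _, by rw [show (⟨((1 : ↥K) : G × H).1, _⟩ : ↥p.ker) = 1 from rfl, map_one]; rfl⟩
      mul_mem' := by
        rintro a b ⟨ha, ea⟩ ⟨hb, eb⟩
        refine ⟨mul_mem ha hb, ?_⟩
        show (χ (⟨a.1.1, ha⟩ * ⟨b.1.1, hb⟩) : H) = a.1.2 * b.1.2
        rw [map_mul, Subgroup.coe_mul, ea, eb]
      inv_mem' := by
        rintro a ⟨ha, ea⟩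
        refine ⟨inv_mem ha, ?_⟩
        show (χ (⟨a.1.1, ha⟩⁻¹) : H) = (a.1.2)⁻¹
        rw [map_inv, Subgroup.coe_inv, ea] }
  have hNn : N.Normal := by
    refine ⟨fun n hn g => ?_⟩
    obtain ⟨hn1, hn2⟩ := id hn
    have h2 : n.1.2 ∈ p'.ker := hn2 ▸ (χ _).2
    have e : g * n * g⁻¹ = n := by
      rw [mul_inv_eq_iff_eq_mul]
      exact Subtype.ext (Prod.ext (hc _ hn1 _) (hc' _ h2 _))
    rw [e]; exact hn
  have hVsq : ∀ v : ↥K ⧸ N, v * v = 1 := by
    intro v
    induction v using QuotientGroup.induction_on with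
    | _ x =>
      obtain ⟨hg, e⟩ := hsq x.1.1 x.1.2 x.2
      exact (QuotientGroup.eq_one_iff _).2 ⟨hg, e⟩
  have hVinv : ∀ v : ↥K ⧸ N, v⁻¹ = v := fun v => inv_eq_of_mul_eq_one_right (hVsq v)
  letI : CommGroup (↥K ⧸ N) :=
    { (inferInstance : Group (↥K ⧸ N)) with
      mul_comm := fun a b => by
        calc a * b = (a * b)⁻¹ := (hVinv _).symm
          _ = b * a := by rw [mul_inv_rev, hVinv, hVinv] }
  letI : CommGroup ↥p'.ker :=
    { (inferInstance : Group ↥p'.ker) with mul_comm := fun a b => Subtype.ext (hc' b b.2 a) }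
  letI : Module (ZMod 2) (Additive (↥K ⧸ N)) := AddCommGroup.zmodModule fun v => by
    rw [two_nsmul]; exact hVsq v.toMul
  letI : Module (ZMod 2) (Additive ↥p'.ker) := AddCommGroup.zmodModule fun v => by
    rw [two_nsmul]; exact Subtype.ext (hexp _ v.toMul.2)
  let i : ↥p'.ker →* ↥K :=
    MonoidHom.mk' (fun a => ⟨(1, (a : H)), by
      rw [hmemK, map_one]; exact (MonoidHom.mem_ker.1 a.2).symm⟩) fun a b =>
      Subtype.ext (Prod.ext (one_mul 1).symm rfl)
  let j : Additive ↥p'.ker →ₗ[ZMod 2] Additive (↥K ⧸ N) :=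
    (MonoidHom.toAdditive ((QuotientGroup.mk' N).comp i)).toZModLinearMap 2
  have hj : Function.Injective j := by
    refine (injective_iff_map_eq_zero j).2 fun a ha => ?_
    obtain ⟨h1, h2⟩ := (QuotientGroup.eq_one_iff (i a.toMul)).1 ha
    have h3 : (⟨((i a.toMul : ↥K) : G × H).1, h1⟩ : ↥p.ker) = 1 := rfl
    rw [h3, map_one] at h2
    exact Subtype.ext h2.symm
  obtain ⟨r, hr⟩ := LinearMap.exists_leftInverse_of_injective j (LinearMap.ker_eq_bot.2 hj)
  let θ : ↥K →* ↥p'.ker :=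
    MonoidHom.mk' (fun x => (r (Additive.ofMul (QuotientGroup.mk' N x))).toMul) fun x y => by
      rw [map_mul, ofMul_mul, map_add, toMul_add]
  have hθi : ∀ a, θ (i a) = a := fun a => LinearMap.congr_fun hr (Additive.ofMul a)
  have hθN : ∀ x ∈ N, θ x = 1 := fun x hx => by
    show (r (Additive.ofMul (QuotientGroup.mk' N x))).toMul = 1
    rw [QuotientGroup.mk'_apply, (QuotientGroup.eq_one_iff x).2 hx, ofMul_one, map_zero, toMul_zero]
  choose s hs using fun g => hp' (p g)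
  let lift : G → ↥K := fun g => ⟨(g, s g), (hs g).symm⟩
  let φ : G → H := fun g => s g * ((θ (lift g) : H))⁻¹
  have hφ : ∀ (g : G) (x : ↥K), x.1.1 = g → φ g = x.1.2 * ((θ x : H))⁻¹ := by
    intro g x hx
    have hk : (s g)⁻¹ * x.1.2 ∈ p'.ker := by
      rw [MonoidHom.mem_ker, map_mul, map_inv, hs, ← (hmemK x.1).1 x.2, show p x.1.1 = p g by rw [hx],
        inv_mul_cancel]
    have e : x = lift g * i ⟨_, hk⟩ :=
      Subtype.ext (Prod.ext (hx.trans (mul_one g).symm) (mul_inv_cancel_left _ _).symm)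
    conv_rhs => rw [e, map_mul, hθi]
    show s g * _ = (s g * ((s g)⁻¹ * x.1.2)) * _
    rw [Subgroup.coe_mul, mul_inv_rev, mul_assoc (s g), ← mul_assoc ((s g)⁻¹ * x.1.2),
      mul_inv_cancel, one_mul]
  let Φ : G →* H := MonoidHom.mk' φ fun g g' => by
    rw [hφ (g * g') (lift g * lift g') rfl, map_mul, Subgroup.coe_mul]
    show s g * s g' * _ = (s g * _) * (s g' * _)
    have hcen : ∀ (a : ↥p'.ker) (h : H), (a : H)⁻¹ * h = h * (a : H)⁻¹ := fun a h =>
      (hc' _ (inv_mem a.2) h).symm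
    rw [Subgroup.coe_mul, mul_inv_rev, mul_assoc (s g) _ (s g' * _), ← mul_assoc (_⁻¹) (s g'),
      hcen (θ (lift g)) (s g'), mul_assoc (s g) (s g'), mul_assoc (s g'),
      hcen (θ (lift g')) ((θ (lift g) : H))⁻¹]
  have hΦp : ∀ g, p' (Φ g) = p g := by
    intro g
    show p' (s g * _) = _
    rw [map_mul, map_inv, MonoidHom.mem_ker.1 (θ (lift g)).2, inv_one, mul_one, hs]
  have hinj : Function.Injective Φ := by
    refine (injective_iff_map_eq_one Φ).2 fun g hg => ?_
    have hgk : g ∈ p.ker := by rw [MonoidHom.mem_ker, ← hΦp, hg, map_one]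
    let x : ↥K := ⟨(g, (χ ⟨g, hgk⟩ : H)), by
      rw [hmemK]; exact (MonoidHom.mem_ker.1 hgk).trans (MonoidHom.mem_ker.1 (χ _).2).symm⟩
    have h1 : φ g = (χ ⟨g, hgk⟩ : H) := by
      rw [hφ g x rfl, hθN x ⟨hgk, rfl⟩, Subgroup.coe_one, inv_one, mul_one]
    have h2 : χ ⟨g, hgk⟩ = χ 1 := by
      rw [map_one]; exact Subtype.ext (h1.symm.trans hg)
    exact congrArg Subtype.val (χ.injective h2)
  have hcard : Nat.card G = Nat.card H := by
    rw [Subgroup.card_eq_card_quotient_mul_card_subgroup p.ker,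
      Subgroup.card_eq_card_quotient_mul_card_subgroup p'.ker,
      Nat.card_congr (QuotientGroup.quotientKerEquivOfSurjective p hp).toEquiv,
      Nat.card_congr (QuotientGroup.quotientKerEquivOfSurjective p' hp').toEquiv,
      Nat.card_congr χ.toEquiv]
  exact ⟨MulEquiv.ofBijective Φ ((Nat.bijective_iff_injective_and_card Φ).2 ⟨hinj, hcard⟩)⟩

end Cfsg.Agent.Lib.H59.TwoAut
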